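import Mathlib

/-!
# Uniqueness of the Suzuki groups: the inversion map on the coordinates of the kernel

`T` describes the action of a swapping involution on the kernel of a point stabiliser, in coordinates
of type A. The two functional equations coming from `t z t = v t v⁻¹` determine the automorphism `φ`
(its square is the squaring map) and `T` itself.
-/

set_option autoImplicit false

namespace Cfsg.Agent.H7.SzU

variable {F : Type*} [Field F]

/-- The weight of the scaling on the centre. -/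
def nrm (φ : F ≃+* F) (x : F) : F := x * φ x

/-- Product in the coordinates of type A. -/
def tmul (φ : F ≃+* F) (u w : F × F) : F × F := (u.1 + w.1, u.2 + w.2 + φ u.1 * w.1)

/-- The scalings. -/
def scale (φ : F ≃+* F) (l : F) (u : F × F) : F × F := (l * u.1, nrm φ l * u.2)

open Classical in
/-- The inversion map of a Suzuki group. -/
noncomputable def tau (φ : F ≃+* F) (u : F × F) : F × F :=
  if u.1 = 0 then (u.2 / φ u.2, 0)
  else (u.1⁻¹ * ((u.2 / nrm φ u.1) / (1 + u.2 / nrm φ u.1 + φ (u.2 / nrm φ u.1))),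
    (nrm φ u.1)⁻¹ * (1 / (1 + u.2 / nrm φ u.1 + φ (u.2 / nrm φ u.1))))

lemma nrm_mul (φ : F ≃+* F) (a b : F) : nrm φ (a * b) = nrm φ a * nrm φ b := by
  simp only [nrm, map_mul]; ring

lemma nrm_one (φ : F ≃+* F) : nrm φ 1 = 1 := by simp [nrm]

lemma nrm_zero (φ : F ≃+* F) : nrm φ 0 = 0 := by simp [nrm]

lemma nrm_inv (φ : F ≃+* F) (a : F) : nrm φ a⁻¹ = (nrm φ a)⁻¹ := by
  simp only [nrm, map_inv₀, mul_inv]

lemma nrm_ne_zero (φ : F ≃+* F) {a : F} (ha : a ≠ 0) : nrm φ a ≠ 0 :=
  mul_ne_zero ha ((map_ne_zero φ).2 ha)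

/-- The hypotheses on the inversion map: `z = (0, η)` and `v = (1, b)`. -/
structure Data (φ : F ≃+* F) (T : F × F → F × F) (η b : F) : Prop where
  four : 4 ≤ Nat.card F
  inj : ∀ a : F, a ≠ 0 → nrm φ a = 1 → a = 1
  hη : η ≠ 0
  eqv : ∀ (l : F) (u : F × F), l ≠ 0 → u ≠ 0 → T (scale φ l u) = scale φ l⁻¹ (T u)
  invol : ∀ u : F × F, u ≠ 0 → T (T u) = u
  tz : T (0, η) = (1, b)
  tvi : T (1, b + 1) = (1, b + 1)
  e1 : ∀ c : F, c ≠ 0 → c ≠ η →
    T (0, η + c) = tmul φ (1, b) (T (tmul φ (1, b + 1) (T (0, c))))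
  e2 : ∀ c : F, c ≠ 0 →
    T (1, b + 1 + c) = tmul φ (1, b + 1) (T (tmul φ (0, η) (T (0, c))))

variable [CharP F 2] [Finite F] {φ : F ≃+* F} {T : F × F → F × F} {η b : F}

namespace Data

omit [CharP F 2] [Finite F] in
lemma nrm_injective (d : Data φ T η b) : Function.Injective (nrm φ) := by
  intro x y h
  rcases eq_or_ne y 0 with rfl | hy
  · by_contra hx
    exact nrm_ne_zero φ hx (h.trans (nrm_zero φ))
  have hx : x ≠ 0 := fun e => nrm_ne_zero φ hy (by rw [← h, e, nrm_zero])
  have := d.inj (x * y⁻¹) (mul_ne_zero hx (inv_ne_zero hy))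
    (by rw [nrm_mul, nrm_inv, h, mul_inv_cancel₀ (nrm_ne_zero φ hy)])
  exact (mul_inv_eq_one₀ hy).1 this

omit [CharP F 2] in
lemma nrm_surjective (d : Data φ T η b) : Function.Surjective (nrm φ) :=
  Finite.surjective_of_injective d.nrm_injective

omit [CharP F 2] [Finite F] in
lemma tv (d : Data φ T η b) : T (1, b) = (0, η) := by
  rw [← d.tz, d.invol]
  intro h
  exact d.hη (congrArg Prod.snd h)

/-- The square of `v` is `z`. -/
theorem eta_eq_one (d : Data φ T η b) : η = 1 := by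
  obtain ⟨l, hl⟩ := d.nrm_surjective η⁻¹
  have hl0 : l ≠ 0 := fun e => inv_ne_zero d.hη (by rw [← hl, e, nrm_zero])
  have h := d.e2 1 one_ne_zero
  rw [add_assoc, CharTwo.add_self_eq_zero, add_zero, d.tv] at h
  have e0 : ((0, η) : F × F) ≠ 0 := fun e => d.hη (congrArg Prod.snd e)
  have e1 : ((0, 1) : F × F) = scale φ l (0, η) := by
    simp only [scale, mul_zero, hl, inv_mul_cancel₀ d.hη]
  have e2 : tmul φ (0, η) (scale φ l⁻¹ (1, b)) = scale φ l⁻¹ (1, b + 1) := by
    simp only [tmul, scale, nrm_inv, hl, inv_inv, map_zero, zero_mul, add_zero, mul_one, zero_add,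
      mul_add]
    exact Prod.ext rfl (add_comm _ _)
  rw [e1, d.eqv l _ hl0 e0, d.tz, e2,
    d.eqv l⁻¹ _ (inv_ne_zero hl0) (fun e => one_ne_zero (congrArg Prod.fst e)), d.tvi, inv_inv] at h
  have h1 := congrArg Prod.fst h
  simp only [tmul, scale, mul_one] at h1
  have hl1 : l = 1 := (CharTwo.add_eq_zero.1 h1.symm).symm
  rw [hl1, nrm_one, eq_comm, inv_eq_one] at hl
  exact hl

variable (d : Data φ T 1 b)
include d

omit [CharP F 2] [Finite F] in
lemma T_zero_left {c l : F} (hl : l ≠ 0) (hc : nrm φ l = c) : T (0, c) = (l⁻¹, b / c) := by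
  have h := d.eqv l (0, 1) hl (fun e => one_ne_zero (congrArg Prod.snd e))
  rw [d.tz] at h
  simp only [scale, mul_zero, hc, mul_one, nrm_inv] at h
  rw [h, inv_mul_eq_div]

omit [CharP F 2] [Finite F] in
/-- The recursion coming from the second equation. -/
theorem rec_step {c l : F} (hc : c ≠ 0) (hl : nrm φ l = c) :
    (T (1, b + (c + 1))).1 = 1 + l * (T (1, b + c)).1 ∧
      (T (1, b + (c + 1))).2 = b + 1 + c * (T (1, b + c)).2 + l * (T (1, b + c)).1 := by
  have hl0 : l ≠ 0 := fun e => hc (by rw [← hl, e, nrm_zero])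
  have h := d.e2 c hc
  have e2 : tmul φ (0, 1) (T (0, c)) = scale φ l⁻¹ (1, b + c) := by
    rw [d.T_zero_left hl0 hl]
    simp only [tmul, scale, nrm_inv, hl, map_zero, zero_mul, add_zero, zero_add, mul_one]
    refine Prod.ext rfl ?_
    field_simp
    ring
  rw [show b + 1 + c = b + (c + 1) by ring, e2,
    d.eqv l⁻¹ _ (inv_ne_zero hl0) (fun e => one_ne_zero (congrArg Prod.fst e)), inv_inv] at h
  rw [h]
  simp only [tmul, scale, hl, map_one, one_mul, and_self]

/-- The consequence of the first equation. -/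
theorem star {A : F} (hA0 : A ≠ 0) (hA1 : A ≠ 1) :
    ∃ ν, nrm φ ν * (1 + nrm φ (1 + A)) = nrm φ (1 + A) ∧
      (T (1, b + ((1 + b) * A + b * φ A) / nrm φ A)).1 = A * (1 + ν) ∧
      (T (1, b + ((1 + b) * A + b * φ A) / nrm φ A)).2 =
        nrm φ A * (1 + ν + b * (1 + nrm φ ν)) := by
  obtain ⟨μ, rfl⟩ : ∃ μ, A = 1 + μ :=
    ⟨1 + A, by rw [← add_assoc, CharTwo.add_self_eq_zero, zero_add]⟩
  have hμ0 : μ ≠ 0 := fun e => hA1 (by rw [e, add_zero])
  have hμ1 : μ ≠ 1 := fun e => hA0 (by rw [e, CharTwo.add_self_eq_zero])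
  set c := (nrm φ μ)⁻¹ with hcdef
  have hc0 : c ≠ 0 := inv_ne_zero (nrm_ne_zero φ hμ0)
  have hc1 : c ≠ 1 := fun e => hμ1 (d.inj μ hμ0 (inv_eq_one.1 e))
  have hμ : nrm φ μ⁻¹ = c := nrm_inv φ μ
  obtain ⟨ν, hν⟩ := d.nrm_surjective (1 + c)⁻¹
  have h1c : (1 : F) + c ≠ 0 := fun e => hc1 (CharTwo.add_eq_zero.1 e).symm
  have hν0 : ν ≠ 0 := fun e => inv_ne_zero h1c (by rw [← hν, e, nrm_zero])
  refine ⟨ν, ?_, ?_⟩
  · rw [← add_assoc (1 : F) 1 μ, CharTwo.add_self_eq_zero, zero_add, hν]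
    have hn : nrm φ μ ≠ 0 := nrm_ne_zero φ hμ0
    field_simp
    rw [hcdef]
    field_simp
    ring
  have h := d.e1 c hc0 hc1
  rw [d.T_zero_left (l := ν⁻¹) (inv_ne_zero hν0) (by rw [nrm_inv, hν, inv_inv]), inv_inv,
    d.T_zero_left (l := μ⁻¹) (inv_ne_zero hμ0) hμ, inv_inv] at h
  set w := ((1 + b) * (1 + μ) + b * φ (1 + μ)) / nrm φ (1 + μ) with hw
  have e : tmul φ (1, b + 1) (μ, b / c) = scale φ (1 + μ) (1, b + w) := by
    simp only [tmul, scale, map_one, one_mul, mul_one]
    refine Prod.ext rfl ?_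
    simp only [mul_add (nrm φ (1 + μ)), hw, mul_div_cancel₀ _ (nrm_ne_zero φ hA0)]
    rw [hcdef, div_inv_eq_mul]
    simp only [nrm, map_add, map_one]
    linear_combination (-b - b * μ - b * φ μ) * (CharTwo.two_eq_zero (R := F))
  rw [e, d.eqv _ _ hA0 (fun e => one_ne_zero (congrArg Prod.fst e))] at h
  simp only [tmul, scale, map_one, one_mul, Prod.mk.injEq, nrm_inv] at h
  obtain ⟨h1, h2⟩ := h
  constructor
  · field_simp at h1
    linear_combination (CharTwo.two_eq_zero (R := F)) * (T (1, b + w)).1 + h1 -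
      (CharTwo.two_eq_zero (R := F)) * (1 + μ) * (1 + ν) + (CharTwo.two_eq_zero (R := F)) * (1 + μ)
  · have hn := nrm_ne_zero φ hA0
    rw [show b / (1 + c) = b * nrm φ ν by rw [hν]; ring] at h2
    field_simp at h1 h2
    set P := (T (1, b + w))
    grind

/-- `φ` fixes only the prime field. -/
theorem fix_trivial {A : F} (h : φ A = A) : A = 0 ∨ A = 1 := by
  by_contra hcon
  push Not at hcon
  obtain ⟨hA0, hA1⟩ := hcon
  obtain ⟨ν, hν, hp, -⟩ := d.star hA0 hA1
  have hsq : nrm φ A = A * A := by rw [nrm, h]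
  have hw : ((1 + b) * A + b * φ A) / nrm φ A = A⁻¹ := by
    rw [h, hsq, show (1 + b) * A + b * A = A + (b * A + b * A) by ring, CharTwo.add_self_eq_zero,
      add_zero]
    field_simp
  rw [hw] at hp
  have hμ : φ (1 + A) = 1 + A := by rw [map_add, map_one, h]
  have hν' : ν = (1 + A) * A⁻¹ := by
    refine d.nrm_injective ?_
    rw [nrm_mul, nrm_inv, hsq]
    have e : 1 + nrm φ (1 + A) = A * A := by
      rw [nrm, hμ]
      linear_combination (1 + A) * (CharTwo.two_eq_zero (R := F))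
    rw [e] at hν
    rw [← hν]
    field_simp
  have hp1 : (T (1, b + A⁻¹)).1 = 1 := by
    rw [hp, hν']
    field_simp
    linear_combination A * (CharTwo.two_eq_zero (R := F))
  have hw0 : A⁻¹ ≠ 0 := inv_ne_zero hA0
  have hw1 : A⁻¹ + 1 ≠ 0 := fun e => hA1 (inv_eq_one.1 (CharTwo.add_eq_zero.1 e))
  obtain ⟨l, hl⟩ := d.nrm_surjective A⁻¹
  obtain ⟨l', hl'⟩ := d.nrm_surjective (A⁻¹ + 1)
  have h1 := (d.rec_step hw0 hl).1
  have h2 := (d.rec_step hw1 hl').1
  rw [add_assoc, CharTwo.add_self_eq_zero, add_zero, h1, hp1, mul_one] at h2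
  have h3 : l' * (1 + l) = 0 := by linear_combination -h2
  rcases mul_eq_zero.1 h3 with h4 | h4
  · exact hw1 (by rw [← hl', h4, nrm_zero])
  · rw [← CharTwo.add_eq_zero.1 h4, nrm_one] at hl
    exact hA1 (inv_eq_one.1 hl.symm)

/-- `v` lies in one of the two special sections. -/
theorem b_cases : b = 0 ∨ b = 1 := by
  by_contra hcon
  push Not at hcon
  obtain ⟨hb0, hb1⟩ := hcon
  let f : {x : F // x ≠ 0} → {x : F // x ≠ 0} := fun x =>
    ⟨φ x.1 / x.1, div_ne_zero ((map_ne_zero φ).2 x.2) x.2⟩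
  have hf : Function.Injective f := by
    rintro ⟨x, hx⟩ ⟨y, hy⟩ h
    have h' : φ x / x = φ y / y := congrArg Subtype.val h
    have hfix : φ (x / y) = x / y := by
      rw [map_div₀, div_eq_div_iff ((map_ne_zero φ).2 hy) hy]
      rw [div_eq_div_iff hx hy] at h'
      linear_combination h'
    rcases d.fix_trivial hfix with h0 | h1
    · exact absurd ((div_eq_zero_iff.1 h0).resolve_right hy) hx
    · exact Subtype.ext ((div_eq_one_iff_eq hy).1 h1)
  have hb10 : (1 : F) + b ≠ 0 := fun e => hb1 (CharTwo.add_eq_zero.1 e).symm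
  obtain ⟨⟨A, hA0⟩, hA⟩ := (Finite.surjective_of_injective hf) ⟨(1 + b) / b, div_ne_zero hb10 hb0⟩
  have hA' : φ A / A = (1 + b) / b := congrArg Subtype.val hA
  have hA1 : A ≠ 1 := by
    rintro rfl
    rw [map_one, div_one, eq_comm, div_eq_one_iff_eq hb0] at hA'
    exact one_ne_zero (add_right_cancel (hA'.trans (zero_add b).symm))
  obtain ⟨ν, hν, hp, -⟩ := d.star hA0 hA1
  rw [div_eq_div_iff hA0 hb0] at hA'
  have hw : (1 + b) * A + b * φ A = 0 := by
    linear_combination hA' + (1 + b) * A * (CharTwo.two_eq_zero (R := F))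
  rw [hw, zero_div, add_zero, d.tv] at hp
  have hν1 : ν = 1 := (CharTwo.add_eq_zero.1 ((mul_eq_zero.1 hp.symm).resolve_left hA0)).symm
  rw [hν1, nrm_one, one_mul] at hν
  exact one_ne_zero (add_right_cancel (hν.trans (zero_add _).symm))

omit [CharP F 2] [Finite F] in
lemma four' : ∃ a : F, a ≠ 0 ∧ a ≠ 1 := by
  classical
  by_contra h
  push Not at h
  have hle : Nat.card F ≤ Nat.card Bool := Nat.card_le_card_of_injective
    (fun a : F => decide (a = 0)) fun a c hac => by
      by_cases ha : a = 0 <;> by_cases hc : c = 0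
      · rw [ha, hc]
      · simp [ha, hc] at hac
      · simp [ha, hc] at hac
      · rw [h a ha, h c hc]
  have := d.four
  simp at hle
  omega

end Data

namespace Data

variable (d : Data φ T 1 0)
include d

theorem r_eq_div {w : F} (hw0 : w ≠ 0) (hw1 : w ≠ 1) :
    (T (1, w)).2 = (T (1, w)).1 / w := by
  obtain ⟨A, hA⟩ := φ.surjective w⁻¹
  have hA0 : A ≠ 0 := fun e => inv_ne_zero hw0 (by rw [← hA, e, map_zero])
  have hA1 : A ≠ 1 := fun e => hw1 (inv_eq_one.1 (by rw [← hA, e, map_one]))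
  obtain ⟨ν, -, hp, hr⟩ := d.star hA0 hA1
  have hw : ((1 + 0) * A + 0 * φ A) / nrm φ A = w := by
    rw [nrm, hA]
    field_simp
    ring
  rw [hw, zero_add] at hp hr
  rw [hp, hr, nrm, hA]
  field_simp
  ring

theorem p_formula {c l : F} (hc0 : c ≠ 0) (hc1 : c ≠ 1) (hl : nrm φ l = c) :
    (T (1, c + 1)).1 * (1 + c + c * l) = 1 + c ∧
      (T (1, c)).1 * (1 + c + c * l) = c := by
  obtain ⟨h1, h2⟩ := d.rec_step hc0 hl
  have hc1' : c + 1 ≠ 0 := fun e => hc1 (CharTwo.add_eq_zero.1 e)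
  have hc11 : c + 1 ≠ 1 := fun e => hc0 (add_right_cancel (e.trans (zero_add 1).symm))
  simp only [zero_add] at h1 h2
  rw [d.r_eq_div hc0 hc1, d.r_eq_div hc1' hc11] at h2
  set p := (T (1, c)).1
  set p' := (T (1, c + 1)).1
  field_simp at h2
  constructor <;> grind

theorem weight_eq {c l : F} (hc0 : c ≠ 0) (hc1 : c ≠ 1) (hl : nrm φ l = c) {l' : F}
    (hl' : nrm φ l' = c + 1) : (c + 1) * l' = c * l + 1 := by
  have hc1' : c + 1 ≠ 0 := fun e => hc1 (CharTwo.add_eq_zero.1 e)
  have hc11 : c + 1 ≠ 1 := fun e => hc0 (add_right_cancel (e.trans (zero_add 1).symm))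
  obtain ⟨-, h1⟩ := d.p_formula hc1' hc11 hl'
  obtain ⟨h2, -⟩ := d.p_formula hc0 hc1 hl
  set p' := (T (1, c + 1)).1
  have hp : p' ≠ 0 := fun e => hc1' (by rw [← h1, e, zero_mul])
  refine mul_left_cancel₀ hp ?_
  grind

/-- The inverse of the weight, multiplied by the identity, is additive. -/
theorem sq_phi (a : F) : φ (φ a) = a * a := by
  classical
  choose E hE using d.nrm_surjective
  have hEmul : ∀ x y, E (x * y) = E x * E y := fun x y =>
    d.nrm_injective (by rw [nrm_mul, hE, hE, hE])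
  have hE1 : E 1 = 1 := d.nrm_injective (by rw [hE, nrm_one])
  have hE0 : E 0 = 0 := d.nrm_injective (by rw [hE, nrm_zero])
  set g : F → F := fun x => x * E x with hgdef
  have hg1 : ∀ c, g (c + 1) = g c + 1 := by
    intro c
    rcases eq_or_ne c 0 with rfl | hc0
    · simp [hgdef, hE1]
    rcases eq_or_ne c 1 with rfl | hc1
    · simp [hgdef, hE1, CharTwo.add_self_eq_zero]
    exact d.weight_eq hc0 hc1 (hE c) (hE (c + 1))
  have hgmul : ∀ x y, g (x * y) = g x * g y := fun x y => by simp only [hgdef, hEmul]; ring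
  have hgadd : ∀ x y, g (x + y) = g x + g y := by
    intro x y
    rcases eq_or_ne y 0 with rfl | hy
    · simp [hgdef]
    calc g (x + y) = g (y * (x / y + 1)) := by congr 1; field_simp
      _ = g y * (g (x / y) + 1) := by rw [hgmul, hg1]
      _ = g (y * (x / y)) + g y := by rw [hgmul]; ring
      _ = _ := by rw [mul_div_cancel₀ _ hy]
  have hgn : ∀ x, x * x * φ x = g x * g (φ x) := fun x => by
    rw [← hgmul]
    have : E (x * φ x) = x := d.nrm_injective (hE _)
    simp only [hgdef, this]; ring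
  have hsum : ∀ x, φ x + x * x = g x + g (φ x) := by
    intro x
    have h := hgn (x + 1)
    rw [hgadd, map_add, map_one, hgadd, show g 1 = 1 by simp [hgdef, hE1]] at h
    have h' := hgn x
    grind
  have hcase : ∀ x, g x = x * x ∨ g x = φ x := by
    intro x
    have h' := hgn x
    have h := hsum x
    have : (g x - x * x) * (g x - φ x) = 0 := by linear_combination -(g x) * h + h'
    rcases mul_eq_zero.1 this with h'' | h''
    · exact Or.inl (sub_eq_zero.1 h'')
    · exact Or.inr (sub_eq_zero.1 h'')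
  have halt : (∀ x, g x = x * x) ∨ ∀ x, g x = φ x := by
    by_contra hcon
    push Not at hcon
    obtain ⟨⟨x, hx⟩, y, hy⟩ := hcon
    have hx' := (hcase x).resolve_left hx
    have hy' := (hcase y).resolve_right hy
    have hsqadd : (x + y) * (x + y) = x * x + y * y := by
      linear_combination x * y * (CharTwo.two_eq_zero (R := F))
    rcases hcase (x + y) with h | h
    · rw [hgadd, hy', hsqadd] at h
      exact hx (add_right_cancel h)
    · rw [hgadd, hx', map_add] at h
      exact hy (add_left_cancel h)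
  rcases halt with hsq | hφ
  · exfalso
    obtain ⟨x, hx0, hx1⟩ := d.four'
    have key : ∀ x, φ x = φ x * φ x := fun x => by
      have h := hsum x
      rw [hsq, hsq] at h
      linear_combination h
    have h := key x
    have hφx : φ x ≠ 0 := (map_ne_zero φ).2 hx0
    have : φ x = 1 := mul_left_cancel₀ hφx (by rw [mul_one]; exact h.symm)
    exact hx1 (φ.injective (this.trans (map_one φ).symm))
  · have h := hgn a
    rw [hφ, hφ] at h
    rcases eq_or_ne a 0 with rfl | ha
    · simp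
    refine mul_left_cancel₀ ((map_ne_zero φ).2 ha) ?_
    linear_combination -h

/-- The inversion map is the standard one. -/
theorem T_eq {u : F × F} (hu : u ≠ 0) : T u = tau φ u := by
  classical
  have hweight : ∀ c : F, c ≠ 0 → nrm φ (φ c / c) = c := by
    intro c hc
    have := (map_ne_zero φ).2 hc
    simp only [nrm, map_div₀, d.sq_phi]
    field_simp
  have hval : ∀ c : F, 1 + c + φ c ≠ 0 ∧
      T (1, c) = (c / (1 + c + φ c), 1 / (1 + c + φ c)) := by
    intro c
    rcases eq_or_ne c 0 with rfl | hc0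
    · have := d.tv
      simp_all
    rcases eq_or_ne c 1 with rfl | hc1
    · have := d.tvi
      simp_all [CharTwo.add_self_eq_zero]
    obtain ⟨-, h⟩ := d.p_formula hc0 hc1 (hweight c hc0)
    rw [mul_div_cancel₀ _ hc0] at h
    have hne : 1 + c + φ c ≠ 0 := fun e => hc0 (by rw [← h, e, mul_zero])
    refine ⟨hne, ?_⟩
    have hp : (T (1, c)).1 = c / (1 + c + φ c) := (eq_div_iff hne).2 h
    refine Prod.ext hp ?_
    rw [d.r_eq_div hc0 hc1, hp]
    field_simp
  obtain ⟨x, y⟩ := u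
  unfold tau
  rcases eq_or_ne x 0 with rfl | hx
  · have hy : y ≠ 0 := fun e => hu (by rw [e]; rfl)
    rw [if_pos rfl, d.T_zero_left (l := φ y / y)
      (div_ne_zero ((map_ne_zero φ).2 hy) hy) (hweight y hy), inv_div, zero_div]
  rw [if_neg hx]
  have e : ((x, y) : F × F) = scale φ x (1, y / nrm φ x) := by
    simp only [scale, mul_one, mul_div_cancel₀ _ (nrm_ne_zero φ hx)]
  conv_lhs => rw [e, d.eqv x _ hx (fun e => one_ne_zero (congrArg Prod.fst e)), (hval _).2]
  simp only [scale, nrm_inv]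

end Data

end Cfsg.Agent.H7.SzU
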