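import Cfsg.Agent.H48.Suzuki.TypeA
import Cfsg.Agent.H7.SzUnique.Tau

/-!
# Equivariant coordinates of type A

A Suzuki 2-group with `|P| = |Z(P)|²` has coordinates of type A in which the regular group of
automorphisms acts by scalings.
-/

set_option autoImplicit false
set_option linter.style.haveILetI false

namespace Cfsg.Agent.H7.SzU

open H48

section Splitting

variable {F : Type*} [Field F] [CharP F 2]

/-- The extension of `F` by `F` with a symmetric cocycle. -/
@[ext] structure Ext (D : F → F → F) where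
  x : F
  y : F

/-- A symmetric equivariant cocycle vanishing on the diagonal is a multiple of the coboundary of the
norm. -/
theorem cocycle_trivial [Finite F] (φ : F ≃+* F) (D : F → F → F)
    (hcoc : ∀ a c e, D a c + D (a + c) e = D c e + D a (c + e))
    (hsymm : ∀ a c, D a c = D c a) (hdiag : ∀ a, D a a = 0) (hzero : ∀ c, D 0 c = 0)
    (hequiv : ∀ l a c, l ≠ 0 → D (l * a) (l * c) = nrm φ l * D a c) :
    ∃ ε, ∀ a c, D a c = ε * (nrm φ (a + c) + nrm φ a + nrm φ c) := by
  classical
  letI : Fintype F := Fintype.ofFinite F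
  letI : Add (Ext D) := ⟨fun u w => ⟨u.x + w.x, u.y + w.y + D u.x w.x⟩⟩
  letI : Zero (Ext D) := ⟨⟨0, 0⟩⟩
  letI : Neg (Ext D) := ⟨fun u => u⟩
  have addx : ∀ u w : Ext D, (u + w).x = u.x + w.x := fun _ _ => rfl
  have addy : ∀ u w : Ext D, (u + w).y = u.y + w.y + D u.x w.x := fun _ _ => rfl
  letI : AddGroup (Ext D) := AddGroup.ofLeftAxioms
    (fun u w z => Ext.ext (by simp only [addx, add_assoc]) (by
      simp only [addx, addy]
      linear_combination hcoc u.x w.x z.x))
    (fun u => Ext.ext (by simp [addx, show (0 : Ext D).x = 0 from rfl])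
      (by simp [addy, show (0 : Ext D).x = 0 from rfl, show (0 : Ext D).y = 0 from rfl, hzero]))
    (fun u => Ext.ext (CharTwo.add_self_eq_zero u.x) (by
      show u.y + u.y + D u.x u.x = 0
      rw [hdiag, CharTwo.add_self_eq_zero, add_zero]))
  letI : AddCommGroup (Ext D) :=
    { (inferInstance : AddGroup (Ext D)) with
      add_comm := fun u w => Ext.ext (add_comm _ _) (by
        simp only [addy]
        rw [hsymm, add_comm u.y]) }
  have h2 : ∀ u : Ext D, 2 • u = 0 := fun u => by
    rw [two_nsmul]
    exact Ext.ext (CharTwo.add_self_eq_zero u.x) (by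
      show u.y + u.y + D u.x u.x = 0
      rw [hdiag, CharTwo.add_self_eq_zero, add_zero])
  letI : Module (ZMod 2) (Ext D) := AddCommGroup.zmodModule h2
  letI : Module (ZMod 2) F := AddCommGroup.zmodModule fun u => by
    rw [two_nsmul, CharTwo.add_self_eq_zero]
  haveI : Fact (Nat.Prime 2) := ⟨Nat.prime_two⟩
  let pr : Ext D →+ F := AddMonoidHom.mk' Ext.x addx
  obtain ⟨sec, hsec⟩ := LinearMap.exists_rightInverse_of_surjective (pr.toZModLinearMap 2)
    (LinearMap.range_eq_top.2 fun a => ⟨⟨a, 0⟩, rfl⟩)
  have hx : ∀ a, (sec a).x = a := fun a => LinearMap.congr_fun hsec a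
  set h : F → F := fun a => (sec a).y with hh
  have hadd : ∀ a c, h (a + c) = h a + h c + D a c := fun a c => by
    simp only [hh, map_add, addy, hx]
  let H : F → F := fun a => ∑ l : Fˣ, (nrm φ (l : F))⁻¹ * h ((l : F) * a)
  have hodd : ((Fintype.card Fˣ : ℕ) : F) = 1 := by
    rw [Fintype.card_units, Nat.cast_sub Fintype.card_pos, Nat.cast_one]
    have hc : ((Fintype.card F : ℕ) : F) = 0 := by
      exact FiniteField.cast_card_eq_zero F
    rw [hc, zero_sub, CharTwo.neg_eq]
  have Hadd : ∀ a c, H (a + c) = H a + H c + D a c := by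
    intro a c
    have e : ∀ l : Fˣ, (nrm φ (l : F))⁻¹ * h ((l : F) * (a + c)) =
        (nrm φ (l : F))⁻¹ * h ((l : F) * a) + (nrm φ (l : F))⁻¹ * h ((l : F) * c) + D a c := by
      intro l
      rw [mul_add, hadd, hequiv _ _ _ l.ne_zero]
      have := nrm_ne_zero φ l.ne_zero
      field_simp
    simp only [H, e, Finset.sum_add_distrib, Finset.sum_const, Finset.card_univ, nsmul_eq_mul,
      hodd, one_mul]
  have Hmul : ∀ m : Fˣ, H (m : F) = nrm φ (m : F) * H 1 := by
    intro m
    simp only [H, Finset.mul_sum, mul_one]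
    refine Fintype.sum_equiv (Equiv.mulRight m) _ _ fun l => ?_
    simp only [Equiv.coe_mulRight, Units.val_mul, nrm_mul, mul_inv]
    have := nrm_ne_zero φ m.ne_zero
    field_simp
  have H0 : H 0 = 0 := by
    have := Hadd 0 0
    simp only [add_zero, hzero, CharTwo.add_self_eq_zero] at this
    exact this
  have Hnrm : ∀ a, H a = H 1 * nrm φ a := by
    intro a
    rcases eq_or_ne a 0 with rfl | ha
    · rw [H0, nrm_zero, mul_zero]
    · have := Hmul (Units.mk0 a ha)
      simp only [Units.val_mk0] at this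
      rw [this, mul_comm]
  refine ⟨H 1, fun a c => ?_⟩
  have := Hadd a c
  rw [Hnrm, Hnrm a, Hnrm c] at this
  linear_combination -this - H 1 * (nrm φ a + nrm φ c) * (CharTwo.two_eq_zero (R := F))

end Splitting

variable {P : Type*} [Group P]

/-- Coordinates of type A in which `K` acts by scalings. -/
structure TypeACoord (K : Subgroup (MulAut P)) (F : Type) [Field F] (φ : F ≃+* F) where
  /-- the parametrisation -/
  par : F × F ≃ P
  /-- products -/
  par_mul : ∀ u w, par u * par w = par (tmul φ u w)
  /-- the scalar of an automorphism -/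
  lam : K → F
  lam_ne : ∀ k, lam k ≠ 0
  lam_surj : ∀ l : F, l ≠ 0 → ∃ k, lam k = l
  /-- equivariance -/
  equiv : ∀ (k : K) u, (k : MulAut P) (par u) = par (scale φ (lam k) u)

variable [Finite P] {K : Subgroup (MulAut P)} (hS : H48.Suzuki.Setup K)
include hS

open H48.Suzuki in
/-- Higman's type A, with equivariant coordinates. -/
theorem exists_typeACoord (hne : ∃ x y : P, x * y ≠ y * x)
    (hcard : Nat.card P = Nat.card (Subgroup.center P) ^ 2) :
    ∃ (F : Type) (_ : Field F) (_ : Fintype F) (_ : CharP F 2) (φ : F ≃+* F),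
      Fintype.card F = Nat.card (Subgroup.center P) ∧
        (∀ a : F, a ≠ 0 → nrm φ a = 1 → a = 1) ∧ Nonempty (TypeACoord K F φ) := by
  classical
  obtain ⟨F, iF, iFin, iC, ⟨C⟩⟩ := exists_coord hS
  have hZo : Subgroup.center P = omega hS :=
    le_antisymm (fun z hz => sq_center hS hne hz) (omega_le_center hS)
  have hlayer := sq_mem_center hS hne hcard
  have hsq : ∀ y : P, y * y ∈ omega hS := fun y => hZo ▸ (hlayer y).1
  have hcomm : ∀ g y : P, g * y * g⁻¹ * y⁻¹ ∈ omega hS := fun g y => hZo ▸ (hlayer y).2 g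
  have hFcard : Nat.card F = Nat.card (Subgroup.center P) := by
    symm
    refine Nat.card_eq_of_bijective (fun z : Subgroup.center P => C.χ z) ⟨?_, ?_⟩
    · intro z w e
      exact Subtype.ext (C.inj (hZo ▸ z.2) (hZo ▸ w.2) e)
    · intro u
      obtain ⟨w, hw, hwu⟩ := C.surj u
      exact ⟨⟨w, hZo ▸ hw⟩, hwu⟩
  -- the quotient
  let V := P ⧸ Subgroup.center P
  have hVsq : ∀ v : V, v * v = 1 := by
    intro v
    obtain ⟨y, rfl⟩ := QuotientGroup.mk_surjective v
    rw [← QuotientGroup.mk_mul, QuotientGroup.eq_one_iff]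
    exact (hlayer y).1
  have hVcomm : ∀ v w : V, v * w = w * v := by
    intro v w
    have hi : ∀ u : V, u⁻¹ = u := fun u => inv_eq_of_mul_eq_one_right (hVsq u)
    rw [← hi (v * w), mul_inv_rev, hi, hi]
  letI : CommGroup V := { (inferInstance : Group V) with mul_comm := hVcomm }
  letI : CommGroup K := { (inferInstance : Group K) with mul_comm := hS.comm }
  let act : K → V →* V := fun k =>
    QuotientGroup.map _ _ ((k : MulAut P).toMonoidHom) fun z hz => invariant_center K k z hz
  let ρ : K →* AddMonoid.End (Additive V) :=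
    { toFun := fun k => MonoidHom.toAdditive (act k)
      map_one' := by
        refine DFunLike.ext _ _ fun v => ?_
        obtain ⟨y, hy⟩ := QuotientGroup.mk_surjective v.toMul
        rw [show v = Additive.ofMul (y : V) by rw [hy]; rfl]
        rfl
      map_mul' := fun k l => by
        refine DFunLike.ext _ _ fun v => ?_
        obtain ⟨y, hy⟩ := QuotientGroup.mk_surjective v.toMul
        rw [show v = Additive.ofMul (y : V) by rw [hy]; rfl]
        rfl }
  have hVcard : Nat.card (Additive V) = Nat.card F := by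
    have h1 := Subgroup.card_eq_card_quotient_mul_card_subgroup (Subgroup.center P)
    rw [hcard, sq] at h1
    rw [hFcard]
    exact (Nat.eq_of_mul_eq_mul_right Nat.card_pos h1).symm
  have hne' : Nontrivial (Additive V) := by
    apply Finite.one_lt_card_iff_nontrivial.1
    rw [hVcard]
    exact Finite.one_lt_card
  have hinjV : ∀ v : Additive V, v ≠ 0 → ∀ k l : K, ρ k v = ρ l v → k = l := by
    intro v hv k l hkl
    by_contra hne2
    apply hv
    obtain ⟨y, hy⟩ := QuotientGroup.mk_surjective v.toMul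
    have hv' : v = Additive.ofMul (y : V) := by rw [hy]; rfl
    subst hv'
    have e : ((k : MulAut P) y : V) = ((l : MulAut P) y : V) := hkl
    rw [QuotientGroup.eq] at e
    have hk1 : k⁻¹ * l ≠ 1 := fun h => hne2 (inv_mul_eq_one.1 h)
    have hmem : y ∈ Subgroup.center P := by
      refine mem_of_fixed_coset hS (invariant_center K) hk1 ?_
      have := invariant_center K k⁻¹ _ e
      rw [map_mul, map_inv, ← MulAut.mul_apply, ← MulAut.mul_apply, ← Subgroup.coe_mul,
        ← Subgroup.coe_mul, inv_mul_cancel, OneMemClass.coe_one, MulAut.one_apply] at this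
      exact this
    change Additive.ofMul (y : V) = 0
    rw [(QuotientGroup.eq_one_iff y).2 hmem]; rfl
  have hρ0 : ∀ v : Additive V, v ≠ 0 → ∀ k : K, ρ k v ≠ 0 := by
    intro v hv k e
    apply hv
    have : (ρ k⁻¹ * ρ k) v = 0 := by
      change ρ k⁻¹ (ρ k v) = 0
      rw [e, map_zero]
    rw [← map_mul, inv_mul_cancel, map_one] at this
    exact this
  have hregV : ∀ v w : Additive V, v ≠ 0 → w ≠ 0 → ∃! k : K, ρ k v = w := by
    intro v w hv hw
    let f : Option K → Additive V := fun o => o.elim 0 fun k => ρ k v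
    have hf : Function.Injective f := by
      rintro (_ | k) (_ | l) e <;> simp only [f, Option.elim] at e
      · rfl
      · exact absurd e.symm (hρ0 v hv l)
      · exact absurd e (hρ0 v hv k)
      · exact congrArg some (hinjV v hv k l e)
    have hc : Nat.card (Option K) = Nat.card (Additive V) := by
      rw [hVcard]
      refine Nat.card_eq_of_bijective (fun o : Option K => o.elim 0 fun k => (C.c k : F)) ⟨?_, ?_⟩
      · rintro (_ | k) (_ | l) e <;> simp only [Option.elim] at e
        · rfl
        · exact absurd e.symm (C.c l).ne_zero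
        · exact absurd e (C.c k).ne_zero
        · exact congrArg some (C.c.injective (Units.ext e))
      · intro u
        rcases eq_or_ne u 0 with rfl | hu
        · exact ⟨none, rfl⟩
        · obtain ⟨k, hk⟩ := C.c.surjective (Units.mk0 u hu)
          exact ⟨some k, by simp [hk]⟩
    obtain ⟨o, ho⟩ := ((Nat.bijective_iff_injective_and_card f).2 ⟨hf, hc⟩).2 w
    rcases o with _ | k
    · exact absurd ho.symm hw
    · exact ⟨k, ho, fun l hl => hinjV v hv l k (hl.trans ho.symm)⟩
  obtain ⟨F', iF', iFin', iC', χV, cV, hcV⟩ := exists_field ρ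
    (fun v => Additive.toMul.injective (hVsq v.toMul)) hregV
  -- transport to the first field
  let e : F' ≃+* F := FiniteField.ringEquivOfCardEq (by
    rw [← Nat.card_eq_fintype_card, ← Nat.card_eq_fintype_card, ← hVcard]
    exact (Nat.card_congr χV.toEquiv).symm)
  let p : P → F := fun y => e (χV (Additive.ofMul (y : V)))
  have p_mul : ∀ x y, p (x * y) = p x + p y := fun x y => by
    change e (χV (Additive.ofMul (((x * y : P)) : V))) = _
    rw [QuotientGroup.mk_mul, ofMul_mul, map_add, map_add]
  have p_surj : ∀ u : F, ∃ y, p y = u := by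
    intro u
    obtain ⟨y, hy⟩ := QuotientGroup.mk_surjective (χV.symm (e.symm u)).toMul
    refine ⟨y, ?_⟩
    simp only [p, hy, ofMul_toMul, AddEquiv.apply_symm_apply, RingEquiv.apply_symm_apply]
  have p_zero : ∀ y, p y = 0 ↔ y ∈ Subgroup.center P := by
    intro y
    simp only [p, EmbeddingLike.map_eq_zero_iff, ofMul_eq_zero]
    exact QuotientGroup.eq_one_iff y
  have p_equiv : ∀ (k : K) y, p ((k : MulAut P) y) = e (cV k : F') * p y := by
    intro k y
    change e (χV (ρ k (Additive.ofMul (y : V)))) = _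
    rw [hcV, map_mul]
  choose sec hsec using p_surj
  set q : F → F := fun a => C.χ (sec a * sec a) with hqdef
  have hq_spec : ∀ y, C.χ (y * y) = q (p y) := by
    intro y
    have hz : (sec (p y))⁻¹ * y ∈ Subgroup.center P := by
      rw [← p_zero]
      have := p_mul (sec (p y)) ((sec (p y))⁻¹ * y)
      rw [mul_inv_cancel_left, hsec] at this
      exact left_eq_add.1 this
    set z := (sec (p y))⁻¹ * y
    have hy : y = sec (p y) * z := by simp [z]
    have e1 : y * y = sec (p y) * sec (p y) * (z * z) := by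
      conv_lhs => rw [hy]
      have := Subgroup.mem_center_iff.1 hz (sec (p y))
      calc sec (p y) * z * (sec (p y) * z) = sec (p y) * (z * sec (p y)) * z := by group
        _ = _ := by rw [← this]; group
    rw [e1, sq_center hS hne hz, mul_one]
  have q_smul : ∀ (k : K) a, q (e (cV k : F') * a) = (C.c k : F) * q a := by
    intro k a
    conv_lhs => rw [← hsec a, ← p_equiv, ← hq_spec, ← map_mul, C.equiv k _ (hsq _)]
  have q_ne : ∀ a, a ≠ 0 → q a ≠ 0 := by
    intro a ha h
    apply ha
    rw [← hsec a, p_zero, hZo]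
    exact C.eq_one _ (hsq _) h
  set γ := q 1
  have hγ : γ ≠ 0 := q_ne 1 one_ne_zero
  let π : F →* F :=
    { toFun := fun a => q a / γ
      map_one' := div_self hγ
      map_mul' := fun a b => by
        rcases eq_or_ne a 0 with rfl | ha
        · have h0 : q 0 = 0 := by
            have := hq_spec 1
            rw [one_mul, C.map_one, (p_zero 1).2 (one_mem _)] at this
            exact this.symm
          simp [h0]
        obtain ⟨k, hk⟩ := cV.surjective (Units.mk0 (e.symm a)
          (fun h => ha (by rw [← e.apply_symm_apply a, h, map_zero])))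
        have hka : e (cV k : F') = a := by rw [hk, Units.val_mk0, e.apply_symm_apply]
        have h1 := q_smul k b
        have h2 := q_smul k 1
        rw [hka, mul_one] at h2
        rw [hka] at h1
        rw [h1, h2]
        field_simp
        rfl }
  have π_inj : ∀ a, a ≠ 0 → π a = 1 → a = 1 := by
    intro a ha h
    obtain ⟨k, hk⟩ := cV.surjective (Units.mk0 (e.symm a)
      (fun h => ha (by rw [← e.apply_symm_apply a, h, map_zero])))
    have hka : e (cV k : F') = a := by rw [hk, Units.val_mk0, e.apply_symm_apply]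
    have h2 := q_smul k 1
    rw [hka, mul_one] at h2
    change q a / γ = 1 at h
    rw [h2, mul_div_cancel_right₀ _ hγ] at h
    have : C.c k = 1 := Units.ext h
    rw [C.c.map_eq_one_iff.1 this, map_one, Units.val_one, map_one] at hka
    exact hka.symm
  -- the polar form
  set β : P → P → F := fun x y => C.χ (y * x * y⁻¹ * x⁻¹) with hβ
  have hsq_mul : ∀ x y : P, C.χ (x * y * (x * y)) = C.χ (x * x) + C.χ (y * y) + β x y := by
    intro x y
    have hc := Subgroup.mem_center_iff.1 (omega_le_center hS (hcomm y x))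
    have h1 : x * y * (x * y) = x * x * (y * y) * (y * x * y⁻¹ * x⁻¹) := by
      calc x * y * (x * y) = x * ((y * x * y⁻¹ * x⁻¹) * x) * (y * y) := by group
        _ = x * (x * (y * x * y⁻¹ * x⁻¹)) * (y * y) := by rw [← hc]
        _ = x * x * ((y * x * y⁻¹ * x⁻¹) * (y * y)) := by group
        _ = x * x * ((y * y) * (y * x * y⁻¹ * x⁻¹)) := by rw [hc]
        _ = _ := by group
    rw [h1, C.map_mul _ _ (mul_mem (hsq x) (hsq y)) (hcomm y x), C.map_mul _ _ (hsq x) (hsq y)]
  have hβl : ∀ x x' y, β (x * x') y = β x y + β x' y := by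
    intro x x' y
    have hc := Subgroup.mem_center_iff.1 (omega_le_center hS (hcomm y x'))
    have h1 : y * (x * x') * y⁻¹ * (x * x')⁻¹ =
        (y * x * y⁻¹ * x⁻¹) * (y * x' * y⁻¹ * x'⁻¹) := by
      calc y * (x * x') * y⁻¹ * (x * x')⁻¹
          = y * x * y⁻¹ * ((y * x' * y⁻¹ * x'⁻¹) * x⁻¹) := by group
        _ = _ := by rw [← hc x⁻¹]; group
    simp only [hβ]
    rw [h1, C.map_mul _ _ (hcomm y x) (hcomm y x')]
  -- `π` is a product of two automorphisms
  have hπquad : ∀ u v w : F,
      π (u + v + w) + π (u + v) + π (u + w) + π (v + w) + π u + π v + π w = 0 := by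
    intro u v w
    have hπ : ∀ y, π (p y) = C.χ (y * y) / γ := fun y => by rw [hq_spec]; rfl
    rw [← hsec u, ← hsec v, ← hsec w, ← p_mul, ← p_mul, ← p_mul, ← p_mul]
    simp only [hπ, hsq_mul, hβl]
    linear_combination ((2 * (C.χ (sec u * sec u) + C.χ (sec v * sec v) + C.χ (sec w * sec w)) +
      β (sec u) (sec v) + β (sec u) (sec w) + β (sec v) (sec w)) / γ) * (CharTwo.two_eq_zero (R := F))
  have := Cfsg.Agent.H48.FieldAut.finite_aut (F := F)
  letI := Fintype.ofFinite (F ≃+* F)
  obtain ⟨B, hB⟩ := Cfsg.Agent.H48.FieldAut.exists_biadd_of_quadratic (fun a => π a) hπquad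
  obtain ⟨cc, hcc⟩ := Cfsg.Agent.H48.FieldAut.exists_coeff_two B
  obtain ⟨σ, τ, hστ⟩ : ∃ σ τ : F ≃+* F, ∀ a, π a = σ a * τ a := by
    by_contra hno
    push Not at hno
    let S : Set (F →* F) := Set.range fun st : (F ≃+* F) × (F ≃+* F) =>
      ((st.1 : F →+* F) : F →* F) * ((st.2 : F →+* F) : F →* F)
    have hπS : π ∉ S := by
      rintro ⟨st, hst⟩
      obtain ⟨a, ha⟩ := hno st.1 st.2
      exact ha (DFunLike.congr_fun hst a).symm
    apply (linearIndependent_monoidHom F F).notMem_span_image hπS
    have hval : (⇑π : F → F) =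
        ∑ st : (F ≃+* F) × (F ≃+* F), cc st • (fun a => st.1 a * st.2 a) := by
      funext a
      rw [Finset.sum_apply]
      exact (hB a).trans (hcc a a)
    rw [hval]
    refine Submodule.sum_mem _ fun st _ => Submodule.smul_mem _ _ (Submodule.subset_span ?_)
    exact ⟨_, ⟨st, rfl⟩, rfl⟩
  set φ : F ≃+* F := σ.symm.trans τ with hφ
  have hπφ : ∀ a, π a = σ a * φ (σ a) := fun a => by
    rw [hστ, hφ, RingEquiv.trans_apply, RingEquiv.symm_apply_apply]
  have hinjn : ∀ a : F, a ≠ 0 → nrm φ a = 1 → a = 1 := by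
    intro a ha h
    have h1 := π_inj (σ.symm a) (fun h0 => ha (by rw [← σ.apply_symm_apply a, h0, map_zero]))
      (by rw [hπφ, σ.apply_symm_apply]; exact h)
    rw [← σ.apply_symm_apply a, h1, map_one]
  -- coordinates
  let lam : K → F := fun k => σ (e (cV k : F'))
  have lam_ne : ∀ k, lam k ≠ 0 := fun k => by simp [lam]
  have lam_inj : Function.Injective lam := fun k l h =>
    cV.injective (Units.ext (e.injective (σ.injective h)))
  have lam_surj : ∀ l : F, l ≠ 0 → ∃ k, lam k = l := fun l hl => by
    obtain ⟨k, hk⟩ := cV.surjective (Units.mk0 (e.symm (σ.symm l)) (by simp [hl]))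
    exact ⟨k, by simp [lam, hk]⟩
  have lam_mul : ∀ k l, lam (k * l) = lam k * lam l := fun k l => by simp [lam]
  set X : P → F := fun y => σ (p y) with hX
  have X_mul : ∀ x y, X (x * y) = X x + X y := fun x y => by simp only [hX, p_mul, map_add]
  have X_equiv : ∀ (k : K) y, X ((k : MulAut P) y) = lam k * X y := fun k y => by
    simp only [hX, p_equiv, map_mul, lam]
  have X_zero : ∀ y, X y = 0 ↔ y ∈ omega hS := fun y => by
    simp only [hX, map_eq_zero, p_zero, hZo]
  have X_one : X 1 = 0 := (X_zero 1).2 (one_mem _)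
  set W : P → F := fun z => C.χ z / γ with hW
  have W_mul : ∀ z z', z ∈ omega hS → z' ∈ omega hS → W (z * z') = W z + W z' := fun z z' hz hz' => by
    simp only [hW, C.map_mul z z' hz hz', add_div]
  have W_sq : ∀ y, W (y * y) = nrm φ (X y) := fun y => by
    simp only [hW, hq_spec]
    exact hπφ (p y)
  have W_equiv : ∀ (k : K) z, z ∈ omega hS → W ((k : MulAut P) z) = nrm φ (lam k) * W z := by
    intro k z hz
    have h1 := q_smul k 1
    rw [mul_one] at h1
    have h2 : π (e (cV k : F')) = (C.c k : F) := by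
      change q _ / γ = _
      rw [h1, mul_div_cancel_right₀ _ hγ]
    have h3 : nrm φ (lam k) = (C.c k : F) := by rw [← h2, hπφ]; rfl
    simp only [hW, C.equiv k z hz, h3, mul_div_assoc]
  have Wsurj : ∀ y : F, ∃ z : P, z ∈ omega hS ∧ W z = y := fun y => by
    obtain ⟨z, hz, hzy⟩ := C.surj (y * γ)
    exact ⟨z, hz, by simp only [hW, hzy, mul_div_cancel_right₀ _ hγ]⟩
  choose ι hιm hιv using Wsurj
  have W_inj : ∀ z z', z ∈ omega hS → z' ∈ omega hS → W z = W z' → z = z' := fun z z' hz hz' h =>
    C.inj hz hz' ((div_left_inj' hγ).1 h)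
  have ι_mul : ∀ u w, ι u * ι w = ι (u + w) := fun u w =>
    W_inj _ _ (mul_mem (hιm u) (hιm w)) (hιm _) (by rw [W_mul _ _ (hιm u) (hιm w), hιv, hιv, hιv])
  have ι_comm : ∀ u (y : P), y * ι u = ι u * y := fun u y =>
    Subgroup.mem_center_iff.1 (omega_le_center hS (hιm u)) y
  have ι_equiv : ∀ (k : K) u, (k : MulAut P) (ι u) = ι (nrm φ (lam k) * u) := fun k u =>
    W_inj _ _ (map_omega hS k (hιm u)) (hιm _) (by rw [W_equiv k _ (hιm u), hιv, hιv])
  have ι_W : ∀ z, z ∈ omega hS → ι (W z) = z := fun z hz => W_inj _ _ (hιm _) hz (hιv _)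
  -- an equivariant section
  choose kk hkk using lam_surj
  obtain ⟨y₁, hy₁⟩ : ∃ y, X y = 1 := by
    refine ⟨sec (σ.symm 1), ?_⟩
    simp [hX, hsec]
  let s : F → P := fun a => if h : a = 0 then 1 else (kk a h : MulAut P) y₁
  have s0 : s 0 = 1 := dif_pos rfl
  have sX : ∀ a, X (s a) = a := by
    intro a
    rcases eq_or_ne a 0 with rfl | ha
    · rw [s0, X_one]
    · simp only [s, dif_neg ha, X_equiv, hkk, hy₁, mul_one]
  have s_equiv : ∀ (k : K) a, (k : MulAut P) (s a) = s (lam k * a) := by
    intro k a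
    rcases eq_or_ne a 0 with rfl | ha
    · rw [mul_zero, s0, map_one]
    · have hla : lam k * a ≠ 0 := mul_ne_zero (lam_ne k) ha
      simp only [s, dif_neg ha, dif_neg hla]
      have : kk (lam k * a) hla = k * kk a ha := lam_inj (by rw [lam_mul, hkk, hkk])
      rw [this, Subgroup.coe_mul, MulAut.mul_apply]
  have eqF : ∀ {u v : F}, u + v = 0 → u = v := fun h => CharTwo.add_eq_zero.1 h
  have X_inv : ∀ y, X y⁻¹ = X y := fun y => eqF (by rw [← X_mul, inv_mul_cancel, X_one])
  have hmem : ∀ y : P, (s (X y))⁻¹ * y ∈ omega hS := fun y => by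
    rw [← X_zero, X_mul, X_inv, sX, CharTwo.add_self_eq_zero]
  let f : F → F → F := fun a c => W ((s (a + c))⁻¹ * (s a * s c))
  have hf : ∀ a c, s a * s c = s (a + c) * ι (f a c) := by
    intro a c
    have h := hmem (s a * s c)
    rw [X_mul, sX, sX] at h
    rw [ι_W _ h, mul_inv_cancel_left]
  have s_ι_inj : ∀ {a a' u u'}, s a * ι u = s a' * ι u' → a = a' ∧ u = u' := by
    intro a a' u u' h
    have h1 := congrArg X h
    rw [X_mul, X_mul, (X_zero _).2 (hιm u), (X_zero _).2 (hιm u'), add_zero, add_zero, sX, sX] at h1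
    subst h1
    exact ⟨rfl, by rw [← hιv u, ← hιv u', mul_left_cancel h]⟩
  have f_zero : ∀ c, f 0 c = 0 := fun c => by
    have h := hf 0 c
    rw [s0, one_mul, zero_add] at h
    have h' : s c * ι 0 = s c * ι (f 0 c) := by
      rw [← h, show ι 0 = 1 by
        have := ι_mul 0 0
        rw [add_zero] at this
        exact left_eq_mul.1 this.symm, mul_one]
    exact (s_ι_inj h').2.symm
  have f_coc : ∀ a c d, f a c + f (a + c) d = f c d + f a (c + d) := by
    intro a c d
    refine (s_ι_inj (a := a + c + d) (a' := a + c + d) ?_).2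
    calc s (a + c + d) * ι (f a c + f (a + c) d)
        = s (a + c + d) * ι (f (a + c) d) * ι (f a c) := by
          rw [mul_assoc, ι_mul, add_comm (f a c)]
      _ = s (a + c) * (s d * ι (f a c)) := by rw [← hf, mul_assoc]
      _ = s (a + c) * ι (f a c) * s d := by rw [ι_comm (f a c) (s d), mul_assoc]
      _ = s a * (s c * s d) := by rw [← hf, mul_assoc]
      _ = s a * s (c + d) * ι (f c d) := by rw [hf c d, mul_assoc]
      _ = s (a + (c + d)) * ι (f a (c + d)) * ι (f c d) := by rw [hf a (c + d)]
      _ = _ := by rw [mul_assoc, ι_mul, add_assoc, add_comm (f a (c + d))]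
  have f_diag : ∀ a, f a a = nrm φ a := fun a => by
    simp only [f, CharTwo.add_self_eq_zero, s0, inv_one, one_mul, W_sq, sX]
  have f_symm : ∀ a c, f a c + f c a = φ a * c + φ c * a := by
    intro a c
    have e1 : s c * s a = s a * s c * (ι (f a c) * ι (f c a)) := by
      rw [hf c a, hf a c, add_comm c a, ι_mul, mul_assoc, ι_mul]
      congr 2
      rw [← add_assoc, CharTwo.add_self_eq_zero, zero_add]
    have e2 : s a * s c * (s a * s c) = s a * s a * (s c * s c) * (ι (f a c) * ι (f c a)) := by
      calc s a * s c * (s a * s c) = s a * (s c * s a) * s c := by simp only [mul_assoc]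
        _ = s a * s a * (s c * ((ι (f a c) * ι (f c a)) * s c)) := by rw [e1]; simp only [mul_assoc]
        _ = _ := by
          rw [ι_mul, ← ι_comm]
          simp only [mul_assoc]
    have h := congrArg W e2
    rw [W_sq, X_mul, sX, sX, W_mul _ _ (mul_mem (hsq _) (hsq _)) (mul_mem (hιm _) (hιm _)),
      W_mul _ _ (hsq _) (hsq _), ι_mul, hιv, W_sq, W_sq, sX, sX] at h
    simp only [nrm, map_add] at h
    linear_combination -h
  have f_equiv : ∀ (k : K) a c, f (lam k * a) (lam k * c) = nrm φ (lam k) * f a c := by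
    intro k a c
    refine (s_ι_inj (a := lam k * a + lam k * c) (a' := lam k * a + lam k * c) ?_).2
    rw [← hf, ← mul_add, ← ι_equiv, ← s_equiv, ← s_equiv, ← s_equiv, ← map_mul, ← map_mul, hf]
  obtain ⟨ε, hε⟩ := cocycle_trivial φ (fun a c => f a c + φ a * c)
    (fun a c d => by
      have := f_coc a c d
      simp only [map_add]
      linear_combination this)
    (fun a c => by
      have := f_symm a c
      linear_combination this - (f c a) * (CharTwo.two_eq_zero (R := F)) +
        (φ a * c) * (CharTwo.two_eq_zero (R := F)))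
    (fun a => by
      simp only [f_diag, nrm]
      linear_combination (a * φ a) * (CharTwo.two_eq_zero (R := F)))
    (fun c => by simp [f_zero])
    (fun l a c hl => by
      have h := f_equiv (kk l hl) a c
      rw [hkk] at h
      simp only [h, nrm, map_mul]
      ring)
  let mk : F × F → P := fun u => s u.1 * ι (u.2 + ε * nrm φ u.1)
  have hbij : Function.Bijective mk := by
    constructor
    · rintro ⟨a, y⟩ ⟨a', y'⟩ h
      obtain ⟨h1, h2⟩ := s_ι_inj h
      simp only at h1 h2
      subst h1
      exact Prod.ext rfl (add_right_cancel h2)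
    · intro y
      refine ⟨(X y, W ((s (X y))⁻¹ * y) + ε * nrm φ (X y)), ?_⟩
      simp only [mk, add_assoc, CharTwo.add_self_eq_zero, add_zero, ι_W _ (hmem y),
        mul_inv_cancel_left]
  refine ⟨F, iF, iFin, iC, φ, by rw [← Nat.card_eq_fintype_card, hFcard], hinjn,
    ⟨{ par := Equiv.ofBijective mk hbij, par_mul := ?_, lam := lam, lam_ne := lam_ne,
       lam_surj := fun l hl => ⟨kk l hl, hkk l hl⟩, equiv := ?_ }⟩⟩
  · intro u w
    simp only [Equiv.ofBijective_apply, mk, tmul]
    calc s u.1 * ι (u.2 + ε * nrm φ u.1) * (s w.1 * ι (w.2 + ε * nrm φ w.1))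
        = s u.1 * (ι (u.2 + ε * nrm φ u.1) * s w.1) * ι (w.2 + ε * nrm φ w.1) := by
          simp only [mul_assoc]
      _ = s u.1 * s w.1 * ι (u.2 + ε * nrm φ u.1) * ι (w.2 + ε * nrm φ w.1) := by
          rw [← ι_comm]; simp only [mul_assoc]
      _ = _ := by
          rw [hf, mul_assoc, mul_assoc, ι_mul, ι_mul]
          congr 2
          have := hε u.1 w.1
          linear_combination this + (ε * nrm φ u.1 + ε * nrm φ w.1 - φ u.1 * w.1) * (CharTwo.two_eq_zero (R := F))
  · intro k u
    simp only [Equiv.ofBijective_apply, mk, scale, map_mul, s_equiv, ι_equiv, nrm_mul]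
    congr 2
    ring

end Cfsg.Agent.H7.SzU
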