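import Cfsg.Agent.H48.Zass.Main
import Cfsg.Agent.H7.SzUnique.Coord

/-!
# A simple Zassenhaus group with non-abelian 2-kernel in standard coordinates
-/

set_option autoImplicit false
set_option linter.style.haveILetI false

namespace Cfsg.Agent.H7.SzU

open MulAction H39
open scoped Pointwise

variable {G Ω : Type*} [Group G] [MulAction G Ω] [Fintype Ω]

/-- Coordinates of type A on the kernel in which the two-point stabiliser acts by scalings. -/
structure Coords (S : ZSetup G Ω) (F : Type) [Field F] (φ : F ≃+* F) where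
  /-- the parametrisation -/
  par : F × F → G
  par_inj : Function.Injective par
  par_mem : ∀ u, par u ∈ S.H
  par_surj : ∀ g ∈ S.H, ∃ u, par u = g
  par_mul : ∀ u w, par u * par w = par (tmul φ u w)
  scal : ∀ d ∈ S.D, ∃ l : F, l ≠ 0 ∧ ∀ u, d * par u * d⁻¹ = par (scale φ l u)
  scal_surj : ∀ l : F, l ≠ 0 → ∃ d ∈ S.D, ∀ u, d * par u * d⁻¹ = par (scale φ l u)

variable {S : ZSetup G Ω} {F : Type} [Field F] {φ : F ≃+* F}

namespace Coords

variable (C : Coords S F φ)

lemma par_zero : C.par 0 = 1 := by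
  have h := C.par_mul 0 0
  simp only [tmul, Prod.fst_zero, Prod.snd_zero, add_zero, map_zero, mul_zero] at h
  exact mul_eq_left.1 h

lemma par_ne_one {u : F × F} (hu : u ≠ 0) : C.par u ≠ 1 := fun e =>
  hu (C.par_inj (e.trans C.par_zero.symm))

lemma smul_b_ne (u : F × F) : C.par u • S.b ≠ S.a := S.smul_b_ne_a (S.hHa (C.par_mem u))

lemma fix_a (u : F × F) : C.par u • S.a = S.a := S.hHa (C.par_mem u)

lemma smul_b_inj {u w : F × F} (h : C.par u • S.b = C.par w • S.b) : u = w := by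
  have hu := (S.H_regular (y := S.b) (z := C.par w • S.b) S.hab.symm (C.smul_b_ne w))
  exact C.par_inj (congrArg (fun x : S.H => (x : G))
    (hu.unique (y₁ := ⟨_, C.par_mem u⟩) (y₂ := ⟨_, C.par_mem w⟩) h rfl))

lemma exists_smul_b {y : Ω} (hy : y ≠ S.a) : ∃ u, C.par u • S.b = y := by
  obtain ⟨g, hg, hgy⟩ := S.exists_H_smul_b hy
  obtain ⟨u, rfl⟩ := C.par_surj g hg
  exact ⟨u, hgy⟩

open Classical in
/-- The action of a swapping element on the kernel. -/
noncomputable def tmap (t : G) (u : F × F) : F × F :=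
  if h : t • C.par u • S.b ≠ S.a then (C.exists_smul_b h).choose else 0

lemma par_smul_ne_b {u : F × F} (hu : u ≠ 0) : C.par u • S.b ≠ S.b := fun e =>
  hu (C.smul_b_inj (w := 0) (by rw [e, C.par_zero, one_smul]))

variable {t : G} (ha : t • S.a = S.b) (hb : t • S.b = S.a)
include hb

lemma swap_ne {y : Ω} (hy : y ≠ S.b) : t • y ≠ S.a := fun e =>
  hy (smul_left_cancel t (e.trans hb.symm))

lemma tmap_spec {u : F × F} (hu : u ≠ 0) : t • C.par u • S.b = C.par (C.tmap t u) • S.b := by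
  have h : t • C.par u • S.b ≠ S.a := swap_ne hb (C.par_smul_ne_b hu)
  rw [tmap, dif_pos h]
  exact (C.exists_smul_b h).choose_spec.symm

lemma tmap_eq {u w : F × F} (hu : u ≠ 0) (h : t • C.par u • S.b = C.par w • S.b) :
    C.tmap t u = w := C.smul_b_inj ((C.tmap_spec hb hu).symm.trans h)

include ha

lemma tmap_ne_zero {u : F × F} (hu : u ≠ 0) : C.tmap t u ≠ 0 := fun e => by
  have h := C.tmap_spec hb hu
  rw [e, C.par_zero, one_smul] at h
  exact C.smul_b_ne u (smul_left_cancel t (h.trans ha.symm))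

/-- The functional equations for the action of the swapping involution. -/
theorem data [Finite F] (hcard : 4 ≤ Nat.card F) (hinj : ∀ a : F, a ≠ 0 → nrm φ a = 1 → a = 1)
    [CharP F 2] (htt : t * t = 1) (hinv : ∀ d ∈ S.D, t * d * t⁻¹ = d⁻¹)
    {η b : F} (hη : η ≠ 0)
    (hR : t * C.par (0, η) * t = C.par (1, b) * t * (C.par (1, b))⁻¹) :
    Data φ (C.tmap t) η b := by
  have hne1 : ∀ y : F, ((1, y) : F × F) ≠ 0 := fun y e => one_ne_zero (congrArg Prod.fst e)
  have hne0 : ∀ y : F, y ≠ 0 → ((0, y) : F × F) ≠ 0 := fun y hy e => hy (congrArg Prod.snd e)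
  have hts : ∀ y : Ω, t • t • y = y := fun y => by rw [← mul_smul, htt, one_smul]
  have hvinv : (C.par (1, b))⁻¹ = C.par (1, b + 1) := by
    refine inv_eq_of_mul_eq_one_right ?_
    rw [C.par_mul, ← C.par_zero]
    congr 1
    simp only [tmul, map_one, one_mul]
    exact Prod.ext (CharTwo.add_self_eq_zero (1 : F))
      (show b + (b + 1) + 1 = 0 by linear_combination (b + 1) * (CharTwo.two_eq_zero (R := F)))
  have hR' : t * (C.par (1, b))⁻¹ = (C.par (1, b))⁻¹ * t * C.par (0, η) * t := by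
    calc t * (C.par (1, b))⁻¹
        = (C.par (1, b))⁻¹ * (C.par (1, b) * t * (C.par (1, b))⁻¹) := by group
      _ = _ := by rw [← hR]; group
  have htz : t • C.par (0, η) • S.b = C.par (1, b) • S.b := by
    have h : t • C.par (0, η) • S.b = (t * C.par (0, η) * t) • S.a := by
      rw [mul_smul, mul_smul, ha]
    rw [h, hR, mul_smul, mul_smul, inv_smul_eq_iff.2 (C.fix_a _).symm, ha]
  have hinvol : ∀ u : F × F, u ≠ 0 → C.tmap t (C.tmap t u) = u := fun u hu =>
    C.tmap_eq hb (C.tmap_ne_zero ha hb hu) (by rw [← C.tmap_spec hb hu, hts])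
  refine ⟨hcard, hinj, hη, ?_, hinvol, C.tmap_eq hb (hne0 η hη) htz, ?_, ?_, ?_⟩
  · intro l u hl hu
    obtain ⟨d, hd, hdc⟩ := C.scal_surj l hl
    have hlu : scale φ l u ≠ 0 := by
      intro e
      refine hu (Prod.ext ?_ ?_)
      · exact (mul_eq_zero.1 (congrArg Prod.fst e)).resolve_left hl
      · exact (mul_eq_zero.1 (congrArg Prod.snd e)).resolve_left (nrm_ne_zero φ hl)
    refine C.tmap_eq hb hlu ?_
    have e1 : C.par (scale φ l u) • S.b = d • C.par u • S.b := by
      rw [← hdc, mul_smul, mul_smul, inv_smul_eq_iff.2 hd.2.symm]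
    have e2 : t * d = d⁻¹ * t := by rw [← hinv d hd]; group
    rw [e1, ← mul_smul t d, e2, mul_smul, C.tmap_spec hb hu]
    have h := hdc (scale φ l⁻¹ (C.tmap t u))
    have e3 : scale φ l (scale φ l⁻¹ (C.tmap t u)) = C.tmap t u := by
      simp only [scale, ← mul_assoc, ← nrm_mul, mul_inv_cancel₀ hl, nrm_one, one_mul]
    rw [e3] at h
    rw [← h, mul_smul, mul_smul, inv_smul_smul, inv_smul_eq_iff.2 hd.2.symm]
  · refine C.tmap_eq hb (hne1 _) ?_
    rw [← hvinv, ← mul_smul t, hR', mul_smul _ t, hb, mul_smul, mul_smul, C.fix_a, ha]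
  · intro c hc hcη
    have hzc : ((0, η + c) : F × F) ≠ 0 := hne0 _ fun e => hcη (CharTwo.add_eq_zero.1 e).symm
    have hτ := C.tmap_ne_zero ha hb (hne0 c hc)
    have hne : tmul φ (1, b + 1) (C.tmap t (0, c)) ≠ 0 := by
      intro e
      have h : C.tmap t (0, c) = (1, b) := by
        refine C.par_inj ?_
        rw [← inv_inv (C.par (1, b)), hvinv]
        exact eq_inv_of_mul_eq_one_right (by rw [C.par_mul, e, C.par_zero])
      have h2 := C.tmap_eq hb (hne0 η hη) htz
      have h3 := congrArg (C.tmap t) (h.trans h2.symm)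
      rw [hinvol _ (hne0 c hc), hinvol _ (hne0 η hη)] at h3
      exact hcη (congrArg Prod.snd h3)
    refine C.tmap_eq hb hzc ?_
    have e : C.par (0, η + c) = C.par (0, η) * C.par (0, c) := by
      rw [C.par_mul]; simp [tmul]
    have e' : t * C.par (0, η) = C.par (1, b) * t * (C.par (1, b))⁻¹ * t := by
      rw [← hR, mul_assoc _ t t, htt, mul_one]
    rw [e, mul_smul, ← mul_smul t, e', mul_smul, mul_smul, mul_smul, C.tmap_spec hb (hne0 c hc),
      hvinv, ← mul_smul (C.par (1, b + 1)), C.par_mul, C.tmap_spec hb hne, ← mul_smul, C.par_mul]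
  · intro c hc
    have hτ := C.tmap_ne_zero ha hb (hne0 c hc)
    have hne : tmul φ (0, η) (C.tmap t (0, c)) ≠ 0 := by
      intro e
      have h : C.tmap t (0, c) = (0, η) := by
        simp only [tmul, map_zero, zero_mul, add_zero, zero_add] at e
        have h1 : (C.tmap t (0, c)).1 = 0 := congrArg Prod.fst e
        have h2 : η + (C.tmap t (0, c)).2 = 0 := congrArg Prod.snd e
        exact Prod.ext h1 (CharTwo.add_eq_zero.1 h2).symm
      have h3 := congrArg (C.tmap t) h
      rw [hinvol _ (hne0 c hc), C.tmap_eq hb (hne0 η hη) htz] at h3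
      exact one_ne_zero (congrArg Prod.fst h3).symm
    refine C.tmap_eq hb (hne1 _) ?_
    have e : C.par (1, b + 1 + c) = C.par (1, b + 1) * C.par (0, c) := by
      rw [C.par_mul]; simp [tmul]
    rw [e, mul_smul, ← mul_smul t, ← hvinv, hR', mul_smul, mul_smul, mul_smul,
      C.tmap_spec hb (hne0 c hc), ← mul_smul (C.par (0, η)), C.par_mul, C.tmap_spec hb hne, hvinv,
      ← mul_smul, C.par_mul]

end Coords

section Change

variable [CharP F 2] (C : Coords S F φ)

/-- The coordinates for the inverse automorphism. -/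
noncomputable def Coords.flip : Coords S F φ.symm where
  par u := C.par (φ.symm u.1, u.2 + nrm φ.symm u.1)
  par_inj u w h := by
    obtain ⟨h1, h2⟩ := Prod.mk.injEq .. ▸ C.par_inj h
    have h1' := φ.symm.injective h1
    rw [h1'] at h2
    exact Prod.ext h1' (add_right_cancel h2)
  par_mem u := C.par_mem _
  par_surj g hg := by
    obtain ⟨u, rfl⟩ := C.par_surj g hg
    refine ⟨(φ u.1, u.2 + nrm φ.symm (φ u.1)), ?_⟩
    simp [add_assoc, CharTwo.add_self_eq_zero]
  par_mul u w := by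
    rw [C.par_mul]
    congr 1
    simp only [tmul, nrm, map_add, φ.apply_symm_apply]
    refine Prod.ext rfl ?_
    linear_combination (-(w.1 * φ.symm u.1)) * (CharTwo.two_eq_zero (R := F))
  scal d hd := by
    obtain ⟨l, hl, h⟩ := C.scal d hd
    refine ⟨φ l, (map_ne_zero φ).2 hl, fun u => ?_⟩
    rw [h]
    congr 1
    simp only [scale, nrm, map_mul, φ.symm_apply_apply]
    exact Prod.ext rfl (by ring)
  scal_surj l hl := by
    obtain ⟨d, hd, h⟩ := C.scal_surj (φ.symm l) ((map_ne_zero φ.symm).2 hl)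
    refine ⟨d, hd, fun u => ?_⟩
    rw [h]
    congr 1
    simp only [scale, nrm, map_mul, φ.apply_symm_apply]
    exact Prod.ext rfl (by ring)

omit [CharP F 2] in
/-- Rescaled coordinates. -/
noncomputable def Coords.rescale {l₀ : F} (h₀ : l₀ ≠ 0) : Coords S F φ where
  par u := C.par (scale φ l₀ u)
  par_inj u w h := by
    have h' := C.par_inj h
    exact Prod.ext (mul_left_cancel₀ h₀ (congrArg Prod.fst h'))
      (mul_left_cancel₀ (nrm_ne_zero φ h₀) (congrArg Prod.snd h'))
  par_mem u := C.par_mem _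
  par_surj g hg := by
    obtain ⟨u, rfl⟩ := C.par_surj g hg
    refine ⟨(l₀⁻¹ * u.1, (nrm φ l₀)⁻¹ * u.2), ?_⟩
    congr 1
    exact Prod.ext (mul_inv_cancel_left₀ h₀ _) (mul_inv_cancel_left₀ (nrm_ne_zero φ h₀) _)
  par_mul u w := by
    rw [C.par_mul]
    congr 1
    simp only [tmul, scale, nrm, map_mul]
    exact Prod.ext (by ring) (by ring)
  scal d hd := by
    obtain ⟨l, hl, h⟩ := C.scal d hd
    exact ⟨l, hl, fun u => by rw [h]; congr 1; simp only [scale]; exact Prod.ext (by ring) (by ring)⟩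
  scal_surj l hl := by
    obtain ⟨d, hd, h⟩ := C.scal_surj l hl
    exact ⟨d, hd, fun u => by rw [h]; congr 1; simp only [scale]; exact Prod.ext (by ring) (by ring)⟩

end Change

section Existence

variable [Finite G] [IsSimpleGroup G] (S)

/-- The coordinates exist. -/
theorem exists_coords (hU : IsPGroup 2 S.H) (hne : ∃ x y : S.H, x * y ≠ y * x) :
    ∃ (F : Type) (_ : Field F) (_ : Fintype F) (_ : CharP F 2) (φ : F ≃+* F) (m : ℕ),
      1 ≤ m ∧ Fintype.card F = 2 ^ (2 * m + 1) ∧ S.e + 1 = 2 ^ (2 * m + 1) ∧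
        S.h = (2 ^ (2 * m + 1)) ^ 2 ∧
        (∀ a : F, a ≠ 0 → nrm φ a = 1 → a = 1) ∧ Nonempty (Coords S F φ) := by
  haveI := Fintype.ofFinite G
  have hodd := H48.Zass.odd_e S hU
  obtain ⟨n, hnodd, hn1, hh, -, he, -⟩ := H48.Zass.nonabelian_kernel S hU hne
  obtain ⟨n', -, he', hω, -⟩ := H48.Zass.coord_data S hU hodd
  obtain ⟨hS, hinjD⟩ := H48.Zass.suzuki_setup S hU hodd
  have h2n := Nat.one_le_two_pow (n := n)
  have hqq : (2 : ℕ) ^ n' = 2 ^ n := by omega
  have hc : Nat.card (Subgroup.center S.H) = 2 ^ n := by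
    rw [← H48.Suzuki.omega_eq_center hS hne, ← hqq]; exact hω
  have hcard : Nat.card S.H = Nat.card (Subgroup.center S.H) ^ 2 := by
    rw [hc, show Nat.card S.H = S.h from rfl, hh, ← pow_mul, mul_comm]
  obtain ⟨F, iF, iFin, iC, φ, hF, hinj, ⟨T⟩⟩ := exists_typeACoord hS hne hcard
  obtain ⟨m, rfl⟩ := hnodd
  refine ⟨F, iF, iFin, iC, φ, m, by omega, hF.trans hc, he'.trans hqq, by rw [hh]; ring, hinj, ⟨?_⟩⟩
  exact
    { par := fun u => ((T.par u : S.H) : G)
      par_inj := fun u w h => T.par.injective (Subtype.ext h)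
      par_mem := fun u => (T.par u).2
      par_surj := fun g hg => ⟨T.par.symm ⟨g, hg⟩, by simp⟩
      par_mul := fun u w => congrArg Subtype.val (T.par_mul u w)
      scal := fun d hd => by
        refine ⟨T.lam ⟨_, ⟨⟨d, hd⟩, rfl⟩⟩, T.lam_ne _, fun u => ?_⟩
        rw [← T.equiv]
        exact (H48.Zass.coe_dHom S hodd ⟨d, hd⟩ (T.par u)).symm
      scal_surj := fun l hl => by
        obtain ⟨⟨_, d, rfl⟩, hk⟩ := T.lam_surj l hl
        refine ⟨d, d.2, fun u => ?_⟩
        rw [← hk, ← T.equiv]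
        exact (H48.Zass.coe_dHom S hodd d (T.par u)).symm }

end Existence

section Normal

variable [Finite G] [IsSimpleGroup G]

/-- An involution swapping the two points and a pair `z`, `v` with `t z t = v t v⁻¹`, `v` outside the
centre of the kernel. -/
theorem exists_relation [Fintype F] [CharP F 2] (C : Coords S F φ) {q : ℕ} (hq : Fintype.card F = q)
    (hinj : ∀ a : F, a ≠ 0 → nrm φ a = 1 → a = 1) (hq8 : 8 ≤ q) (hodd : Odd S.e) (he : S.e + 1 = q) (hh : S.h = q ^ 2) :
    ∃ (η x y : F), η ≠ 0 ∧ x ≠ 0 ∧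
      S.w * C.par (0, η) * S.w = C.par (x, y) * S.w * (C.par (x, y))⁻¹ := by
  classical
  obtain ⟨htt, -, hinv⟩ := S.swapper hodd S.w_a S.w_b
  set t := S.w with ht
  have ha : t • S.a = S.b := S.w_a
  have hb : t • S.b = S.a := S.w_b
  have hts : ∀ p : Ω, t • t • p = p := fun p => by rw [← mul_smul, htt, one_smul]
  have hcomm := (S.D_abelian hodd).1
  set z₁ := C.par (0, 1) with hz₁
  have hz₁2 : z₁ * z₁ = 1 := by
    rw [hz₁, C.par_mul, ← C.par_zero]
    congr 1
    simp [tmul, CharTwo.add_self_eq_zero]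
  have hne1 : ((0, 1) : F × F) ≠ 0 := fun e => one_ne_zero (congrArg Prod.snd e)
  set v₁ := C.par (C.tmap t (0, 1)) with hv₁
  have hv₁a : v₁ • S.a = S.a := C.fix_a _
  set g := v₁⁻¹ * t * z₁ * t * v₁ with hg
  have hgg : g * g = 1 := by
    calc g * g = v₁⁻¹ * t * (z₁ * ((t * t) * z₁)) * t * v₁ := by rw [hg]; group
      _ = v₁⁻¹ * t * t * v₁ := by rw [htt, one_mul, hz₁2, mul_one]
      _ = 1 := by rw [mul_assoc _ t t, htt, mul_one, inv_mul_cancel]
  have hga : g • S.a = S.b := by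
    rw [hg, mul_smul, mul_smul, mul_smul, mul_smul, hv₁a, ha, C.tmap_spec hb hne1, inv_smul_smul]
  have hgb : g • S.b = S.a := by
    conv_lhs => rw [← hga, ← mul_smul, hgg, one_smul]
  set d := t * g with hd
  have hdD : d ∈ S.D :=
    ⟨show (t * g) • S.a = S.a by rw [mul_smul, hga, hb],
      show (t * g) • S.b = S.b by rw [mul_smul, hgb, ha]⟩
  obtain ⟨e, heD, hee⟩ : ∃ e ∈ S.D, e * e = d⁻¹ := by
    obtain ⟨j, hj⟩ := exists_pow_eq_self_of_coprime (x := (⟨d, hdD⟩ : S.D)⁻¹) (n := 2)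
      ((Nat.coprime_two_left.2 hodd).coprime_dvd_right (orderOf_dvd_natCard _))
    refine ⟨(((⟨d, hdD⟩ : S.D)⁻¹ ^ j : S.D) : G), SetLike.coe_mem _, ?_⟩
    have := congrArg (fun w : S.D => (w : G)) hj
    simp only [Subgroup.coe_pow, Subgroup.coe_inv] at this ⊢
    rw [← pow_add, ← two_mul, pow_mul]
    exact this
  obtain ⟨l, hl, hle⟩ := C.scal e heD
  obtain ⟨l', -, hle'⟩ := C.scal e⁻¹ (inv_mem heD)
  refine ⟨(scale φ l (0, 1)).2, (scale φ l' (C.tmap t (0, 1))).1,
    (scale φ l' (C.tmap t (0, 1))).2, ?_, ?_, ?_⟩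
  · simp only [scale, mul_one]
    exact nrm_ne_zero φ hl
  all_goals
    have hz : C.par (0, (scale φ l (0, 1)).2) = e * z₁ * e⁻¹ := by
      rw [hz₁, hle]; congr 1; simp [scale]
    have hv : C.par ((scale φ l' (C.tmap t (0, 1))).1, (scale φ l' (C.tmap t (0, 1))).2) =
        e⁻¹ * v₁ * e := by
      rw [hv₁, ← inv_inv e, inv_inv e⁻¹, inv_inv]
      simpa using (hle' (C.tmap t (0, 1))).symm
    have hte : t * e = e⁻¹ * t := by rw [← hinv e heD]; group
    have het : e⁻¹ * t = t * e := hte.symm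
    have hR : t * C.par (0, (scale φ l (0, 1)).2) * t =
        (e⁻¹ * v₁ * e) * t * (e⁻¹ * v₁ * e)⁻¹ := by
      have e1 : t * z₁ * t = v₁ * (t * d) * v₁⁻¹ := by
        rw [hd, ← mul_assoc t t g, htt, one_mul, hg]
        group
      have e2 : e⁻¹ * (t * d) * e = t := by
        rw [← mul_assoc, het, mul_assoc, mul_assoc, ← hcomm e heD d hdD, ← mul_assoc e e d, hee,
          inv_mul_cancel, mul_one]
      rw [hz]
      calc t * (e * z₁ * e⁻¹) * t = (t * e) * z₁ * (e⁻¹ * t) := by group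
        _ = e⁻¹ * (t * z₁ * t) * e := by
          rw [show t * e * z₁ * (e⁻¹ * t) = (e⁻¹ * t) * z₁ * (t * e) by rw [← hte]]
          group
        _ = (e⁻¹ * v₁ * e) * (e⁻¹ * (t * d) * e) * (e⁻¹ * v₁ * e)⁻¹ := by rw [e1]; group
        _ = _ := by rw [e2]
  swap
  · rw [hv]; exact hR
  intro hx0
  set η := (scale φ l (0, 1)).2 with hη
  set y := (scale φ l' (C.tmap t (0, 1))).2 with hy
  rw [hx0] at hv
  rw [← hv] at hR
  have hη0 : η ≠ 0 := by
    simp only [hη, scale, mul_one]
    exact nrm_ne_zero φ hl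
  have hv2 : (C.par (0, y))⁻¹ = C.par (0, y) := by
    refine inv_eq_of_mul_eq_one_right ?_
    rw [C.par_mul, ← C.par_zero]
    congr 1
    simp [tmul, CharTwo.add_self_eq_zero]
  have htz : t • C.par (0, η) • S.b = C.par (0, y) • S.b := by
    have h : t • C.par (0, η) • S.b = (t * C.par (0, η) * t) • S.a := by
      rw [mul_smul, mul_smul, ha]
    rw [h, hR, mul_smul, mul_smul, inv_smul_eq_iff.2 (C.fix_a _).symm, ha]
  have heq : y = η := by
    have h1 : C.par (0, y) * t * C.par (0, η) = t * C.par (0, y) * t := by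
      have e : t * (C.par (0, y))⁻¹ = (C.par (0, y))⁻¹ * t * C.par (0, η) * t := by
        calc t * (C.par (0, y))⁻¹
            = (C.par (0, y))⁻¹ * (C.par (0, y) * t * (C.par (0, y))⁻¹) := by group
          _ = _ := by rw [← hR]; group
      rw [hv2] at e
      conv_rhs => rw [e]
      rw [mul_assoc _ t t, htt, mul_one]
    have h2 := congrArg (fun w : G => w • S.a) h1
    simp only [mul_smul, C.fix_a, ha] at h2
    have h3 := C.smul_b_inj (h2.trans (by rw [← htz, hts] : t • C.par (0, y) • S.b = C.par (0, η) • S.b))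
    exact (Prod.ext_iff.1 h3).2
  rw [heq] at htz
  -- a set of `q + 1` points invariant under a subgroup transitive on it
  set T : Set Ω := insert S.a (Set.range fun c : F => C.par (0, c) • S.b) with hT
  set L : Subgroup G := stabilizer G T
  have hsub : ∀ k : G, (∀ p ∈ T, k • p ∈ T) → k ∈ L := fun k hk => by
    refine MulAction.mem_stabilizer_iff.2 (Set.eq_of_subset_of_ncard_le ?_ (le_of_eq ?_) T.toFinite)
    · rintro _ ⟨p, hp, rfl⟩
      exact hk p hp
    · exact (Set.ncard_image_of_injective T (MulAction.injective k)).symm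
  have htL : t ∈ L := by
    refine hsub t fun p hp => ?_
    rcases hp with rfl | ⟨c, rfl⟩
    · rw [ha]
      exact Or.inr ⟨0, by show C.par (0, 0) • S.b = S.b; rw [Prod.mk_zero_zero, C.par_zero, one_smul]⟩
    · show t • C.par (0, c) • S.b ∈ T
      rcases eq_or_ne c 0 with rfl | hc
      · rw [Prod.mk_zero_zero, C.par_zero, one_smul, hb]
        exact Or.inl rfl
      obtain ⟨k, hk⟩ := (Finite.surjective_of_injective (f := fun a : F => nrm φ a) (by
        intro a a' h
        have h : nrm φ a = nrm φ a' := h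
        rcases eq_or_ne a' 0 with rfl | ha'
        · by_contra ha0
          exact nrm_ne_zero φ ha0 (h.trans (nrm_zero φ))
        have ha0 : a ≠ 0 := fun e => nrm_ne_zero φ ha' (by rw [← h, e, nrm_zero])
        exact (mul_inv_eq_one₀ ha').1 (hinj _ (mul_ne_zero ha0 (inv_ne_zero ha'))
          (by rw [nrm_mul, nrm_inv, h, mul_inv_cancel₀ (nrm_ne_zero φ ha')])))) (c / η)
      have hk0 : k ≠ 0 := fun e => div_ne_zero hc hη0 (by rw [← hk, e]; exact nrm_zero φ)
      obtain ⟨d, hd, hdc⟩ := C.scal_surj k hk0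
      have e1 : C.par (0, c) • S.b = d • C.par (0, η) • S.b := by
        rw [show ((0, c) : F × F) = scale φ k (0, η) by
          simp only [scale, mul_zero]; rw [show nrm φ k = c / η from hk, div_mul_cancel₀ _ hη0],
          ← hdc, mul_smul, mul_smul, inv_smul_eq_iff.2 hd.2.symm]
      have e2 : t * d = d⁻¹ * t := by rw [← hinv d hd]; group
      rw [e1, ← mul_smul t, e2, mul_smul, htz]
      obtain ⟨j, -, hj⟩ := C.scal d⁻¹ (inv_mem hd)
      have e3 := hj (0, η)
      rw [inv_inv] at e3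
      refine Or.inr ⟨(scale φ j (0, η)).2, ?_⟩
      show C.par (0, (scale φ j (0, η)).2) • S.b = _
      rw [show ((0, (scale φ j (0, η)).2) : F × F) = scale φ j (0, η) by simp [scale], ← e3, mul_smul,
        mul_smul, hd.2]
  have hzL : ∀ c : F, C.par (0, c) ∈ L := fun c => by
    refine hsub _ fun p hp => ?_
    rcases hp with rfl | ⟨c', rfl⟩
    · exact Or.inl (C.fix_a _)
    · refine Or.inr ⟨c + c', ?_⟩
      show C.par (0, c + c') • S.b = C.par (0, c) • C.par (0, c') • S.b
      rw [← mul_smul, C.par_mul]; simp [tmul]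
  have horb : orbit L S.a = T := by
    refine Set.Subset.antisymm ?_ ?_
    · rintro _ ⟨⟨k, hk⟩, rfl⟩
      have hk' : k • T = T := hk
      rw [← hk']
      exact Set.smul_mem_smul_set (Or.inl rfl)
    · rintro p (rfl | ⟨c, rfl⟩)
      · exact mem_orbit_self _
      · exact ⟨⟨_, mul_mem (hzL c) htL⟩, by
          show (C.par (0, c) * t) • S.a = _
          rw [mul_smul, ha]⟩
  have hTcard : T.ncard = q + 1 := by
    rw [hT, Set.ncard_insert_of_notMem (by rintro ⟨c, hc⟩; exact C.smul_b_ne _ hc),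
      ← Nat.card_coe_set_eq, Nat.card_range_of_injective (fun c c' h => ?_), Nat.card_eq_fintype_card, hq]
    exact congrArg Prod.snd (C.smul_b_inj h)
  have hdvd : q + 1 ∣ Nat.card G := by
    rw [← hTcard, ← horb, ← Nat.card_coe_set_eq]
    refine dvd_trans ?_ (Subgroup.card_subgroup_dvd_card L)
    rw [Nat.card_congr (orbitEquivQuotientStabilizer L S.a)]
    exact Subgroup.card_quotient_dvd_card _
  rw [S.card_G, hh] at hdvd
  have hdvd' : ((q : ℤ) + 1) ∣ ((q : ℤ) ^ 2 + 1) * (q : ℤ) ^ 2 * S.e := by exact_mod_cast hdvd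
  have heZ : (S.e : ℤ) = q - 1 := by
    have : (S.e : ℤ) + 1 = q := by exact_mod_cast he
    omega
  rw [heZ] at hdvd'
  have hd4 : (q : ℤ) + 1 ∣ 4 := by
    have h1 : ((q : ℤ) + 1) ∣ ((q : ℤ) ^ 2 + 1) * (q : ℤ) ^ 2 * ((q : ℤ) - 1) + 4 :=
      ⟨(q : ℤ) ^ 4 - 2 * (q : ℤ) ^ 3 + 3 * (q : ℤ) ^ 2 - 4 * (q : ℤ) + 4, by ring⟩
    have := dvd_sub h1 hdvd'
    rwa [add_sub_cancel_left] at this
  have := Int.le_of_dvd (by norm_num) hd4
  omega

end Normal

end Cfsg.Agent.H7.SzU
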