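import Cfsg.Agent.H7.SzUnique.Model
import Cfsg.Agent.H7.SzSylow
import Cfsg.Agent.H7.SzLie
import Cfsg.Agent.H7.ZassFeit
import Cfsg.Agent.S0347

/-!
# Uniqueness of the Suzuki groups

A simple Zassenhaus group with non-abelian 2-kernel is a Suzuki group.
-/

set_option autoImplicit false
set_option linter.style.haveILetI false

namespace Cfsg.Agent.H7.SzU

open MulAction H39

/-- The Suzuki group has a setup with non-abelian 2-kernel. -/
theorem exists_sz_setup {F : Type} [Field F] {m : ℕ} (H : SzHyp F m) [Fintype (suzukiOvoid F m)] :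
    ∃ S : ZSetup (Sz F m) (suzukiOvoid F m), IsPGroup 2 S.H ∧ ∃ x y : S.H, x * y ≠ y * x := by
  classical
  haveI := H.fin
  obtain ⟨S, hSa, -, hSH⟩ : ∃ S : ZSetup (Sz F m) (suzukiOvoid F m),
      S.a = ⟨pinf F, inf_mem⟩ ∧ S.b = ⟨pzero F, zero_mem⟩ ∧ S.H = H.Q := by
    refine ⟨⟨⟨pinf F, inf_mem⟩, ⟨pzero F, zero_mem⟩, fun h => inf_ne_zero (congrArg Subtype.val h),
      ZHyp.of_zassenhaus H.zassenhaus, H.Q, fun g hg => Subtype.ext (H.Q_le_B hg), ?_,
      fun u hu hu1 c hc => Subtype.ext (H.eq_inf_of_fixed hu hu1 c.2 (congrArg Subtype.val hc))⟩,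
      rfl, rfl, rfl⟩
    rw [← Nat.card_eq_fintype_card, card_ovoid, H.card_Q, H.card]
  refine ⟨S, ?_, ?_⟩
  · rw [hSH]; exact H.isPGroup_Q
  · rw [hSH]
    by_contra hall
    push Not at hall
    have hc : (⟨H.us 1 0, H.us_mem_Q 1 0⟩ : H.Q) ∈ Subgroup.center H.Q :=
      Subgroup.mem_center_iff.2 fun v => hall v _
    obtain ⟨b, hb⟩ := (H.mem_center_Q _).1 hc
    exact one_ne_zero (H.us_inj.1 hb).1

/-- A simple Zassenhaus group with non-abelian 2-kernel is a Suzuki group. -/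
theorem isoSuzuki_of_setup {G Ω : Type*} [Group G] [Finite G] [MulAction G Ω] [Fintype Ω]
    [IsSimpleGroup G] (S : ZSetup G Ω) (hU : IsPGroup 2 S.H) (hne : ∃ x y : S.H, x * y ≠ y * x) :
    Cfsg.Lie.IsoSuzuki G := by
  classical
  obtain ⟨F, iF, iFin, iC, φ, m, hm, hF, ⟨D⟩⟩ := exists_std S hU hne
  have H : SzHyp F m := ⟨inferInstance, hm, by rw [Nat.card_eq_fintype_card, hF]⟩
  haveI := H.finite_Sz
  haveI := H.isSimple
  haveI : Fintype (suzukiOvoid F m) := Fintype.ofFinite _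
  obtain ⟨S', hU', hne'⟩ := exists_sz_setup H
  obtain ⟨F', iF', iFin', iC', φ', m', -, hF', ⟨D'⟩⟩ := exists_std S' hU' hne'
  -- the two fields have the same order
  have hmm : m' = m := by
    have hc : ∀ {K : Type} [Field K] [Fintype K] {ψ : K ≃+* K} (D : Std S' ψ),
        Nat.card S'.H = Fintype.card K ^ 2 := by
      intro K _ _ ψ D
      rw [sq, ← Fintype.card_prod, ← Nat.card_eq_fintype_card]
      exact (Nat.card_congr (Equiv.ofBijective (fun u => (⟨D.C.par u, D.C.par_mem u⟩ : S'.H))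
        ⟨fun u w h => D.C.par_inj (congrArg Subtype.val h), fun g => by
          obtain ⟨u, hu⟩ := D.C.par_surj g g.2
          exact ⟨u, Subtype.ext hu⟩⟩)).symm
    have h1 := hc D'
    have h2 := S'.hHcard
    rw [h1, ← Nat.card_eq_fintype_card (α := suzukiOvoid F m), card_ovoid, H.card, hF'] at h2
    have h3 := Nat.pow_right_injective le_rfl
      (Nat.pow_left_injective two_ne_zero (Nat.add_right_cancel h2))
    omega
  subst hmm
  obtain ⟨e⟩ := iso_of_std hF hF' D D'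
  exact ⟨F, iF, iFin, m', hm, hF, ⟨e.trans H.lieEquiv⟩⟩

/-- Feit's inequality with the kernel of a setup. -/
theorem feit_setup {G Ω : Type*} [Group G] [Finite G] [MulAction G Ω] [Fintype Ω]
    (hZ : Cfsg.IsZassenhausGroup G Ω) (S : ZSetup G Ω) (ho : Odd S.e) :
    Fintype.card Ω - 2 ≤ 2 * S.e ∨ (IsPGroup 2 S.H ∧ ∃ u v : S.H, u * v ≠ v * u) := by
  rcases Cfsg.Agent.S0885.result hZ S.hab S.h S.e S.card_omega rfl ho S.H S.hHa S.hHcard
    S.hHfix with h | ⟨h2, hne, -⟩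
  · left
    have := S.card_omega
    omega
  · exact Or.inr ⟨h2, hne⟩

/-- A simple Zassenhaus group of odd degree is `PSL₂(2^f)` or a Suzuki group. -/
theorem odd_degree_classify {G Ω : Type*} [Group G] [Finite G] [MulAction G Ω] [Fintype Ω]
    (hZ : Cfsg.IsZassenhausGroup G Ω) [IsSimpleGroup G] (hodd : Odd (Fintype.card Ω)) :
    (∃ (F : Type) (_ : Field F) (_ : Fintype F), ringChar F = 2 ∧ Fintype.card F + 1 = Fintype.card Ω ∧
        Nonempty (G ≃* Matrix.ProjectiveSpecialLinearGroup (Fin 2) F)) ∨ Cfsg.Lie.IsoSuzuki G := by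
  have Z := ZHyp.of_zassenhaus hZ
  obtain ⟨g, -, a, b, hab, -, -⟩ := Z.fix
  obtain ⟨S, rfl, rfl⟩ := exists_zsetup Z hab
  have ho : Odd S.e := (odd_degree_data Z hodd hab).1
  rcases feit_setup hZ S ho with hle | ⟨h2, hne⟩
  swap
  · exact Or.inr (isoSuzuki_of_setup S h2 hne)
  obtain ⟨k, hk⟩ := S.e_dvd_pred_h
  have he2 := S.two_le_e
  have hΩ := S.card_omega
  have hlt := S.e_lt_h
  have hk0 : 0 < k := Nat.pos_of_ne_zero fun e => by rw [e, mul_zero] at hk; omega
  have hk2 : k ≤ 2 := Nat.le_of_mul_le_mul_left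
    (show S.e * k ≤ S.e * 2 by omega) (show 0 < S.e by omega)
  obtain ⟨r, hr⟩ := hodd
  interval_cases k
  · left
    exact Z.psl_of_odd_full hab ⟨r, hr⟩ (by
      show Fintype.card Ω = S.e + 2
      omega)
  · omega

end Cfsg.Agent.H7.SzU
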