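import Cfsg.Agent.H7.SzUnique.Group

/-!
# The permutation model of a Suzuki group
-/

set_option autoImplicit false
set_option linter.style.haveILetI false

namespace Cfsg.Agent.H7.SzU

open MulAction H39

variable {F : Type} [Field F]

/-- A translation. -/
def trF (φ : F ≃+* F) (w : F × F) : Option (F × F) → Option (F × F) := Option.map (tmul φ w)

/-- A scaling. -/
def scF (φ : F ≃+* F) (l : F) : Option (F × F) → Option (F × F) := Option.map (scale φ l)

open Classical in
/-- The swap. -/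
noncomputable def swF (φ : F ≃+* F) : Option (F × F) → Option (F × F)
  | none => some 0
  | some u => if u = 0 then none else some (tau φ u)

/-- The generating permutations of the model. -/
def gens (φ : F ≃+* F) : Set (Equiv.Perm (Option (F × F))) :=
  {p | (∃ w, ⇑p = trF φ w) ∨ (∃ l, l ≠ 0 ∧ ⇑p = scF φ l) ∨ ⇑p = swF φ}

variable {G Ω : Type*} [Group G] [MulAction G Ω] [Fintype Ω] {S : ZSetup G Ω} {φ : F ≃+* F}

/-- Standard coordinates: the swapping involution acts by `tau`. -/
structure Std (S : ZSetup G Ω) (φ : F ≃+* F) where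
  /-- coordinates -/
  C : Coords S F φ
  sq : ∀ a : F, φ (φ a) = a * a
  inj : ∀ a : F, a ≠ 0 → nrm φ a = 1 → a = 1
  act : ∀ u : F × F, u ≠ 0 → S.w • C.par u • S.b = C.par (tau φ u) • S.b

/-- The standard coordinates exist. -/
theorem exists_std [Finite G] [IsSimpleGroup G] (S : ZSetup G Ω) (hU : IsPGroup 2 S.H)
    (hne : ∃ x y : S.H, x * y ≠ y * x) :
    ∃ (F : Type) (_ : Field F) (_ : Fintype F) (_ : CharP F 2) (φ : F ≃+* F) (m : ℕ),
      1 ≤ m ∧ Fintype.card F = 2 ^ (2 * m + 1) ∧ Nonempty (Std S φ) := by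
  classical
  obtain ⟨F, iF, iFin, iC, φ, m, hm, hF, he, hh, hinj, ⟨C⟩⟩ := exists_coords S hU hne
  have hodd := H48.Zass.odd_e S hU
  have hq8 : 8 ≤ 2 ^ (2 * m + 1) :=
    le_trans (by norm_num : (8 : ℕ) ≤ 2 ^ 3) (Nat.pow_le_pow_right (by norm_num) (by omega))
  obtain ⟨η, x, y, hη, hx, hR⟩ := exists_relation C hF hinj hq8 hodd he hh
  obtain ⟨htt, -, hinv⟩ := S.swapper hodd S.w_a S.w_b
  have h4 : 4 ≤ Nat.card F := by rw [Nat.card_eq_fintype_card, hF]; omega
  -- normalise the first coordinate of `v`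
  set C₁ := C.rescale hx
  have hNx := nrm_ne_zero φ hx
  have hR₁ : S.w * C₁.par (0, η / nrm φ x) * S.w =
      C₁.par (1, y / nrm φ x) * S.w * (C₁.par (1, y / nrm φ x))⁻¹ := by
    change S.w * C.par (scale φ x _) * S.w = C.par (scale φ x _) * S.w * (C.par (scale φ x _))⁻¹
    simp only [scale, mul_zero, mul_one, mul_div_cancel₀ _ hNx]
    exact hR
  have d₁ := C₁.data S.w_a S.w_b h4 hinj htt hinv (div_ne_zero hη hNx) hR₁
  rw [d₁.eta_eq_one] at hR₁ d₁
  rcases d₁.b_cases with hb | hb
  · rw [hb] at d₁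
    refine ⟨F, iF, iFin, iC, φ, m, hm, hF, ⟨⟨C₁, d₁.sq_phi, hinj, fun u hu => ?_⟩⟩⟩
    rw [C₁.tmap_spec S.w_b hu, d₁.T_eq hu]
  · set C₂ := C₁.flip
    have hinj₂ : ∀ a : F, a ≠ 0 → nrm φ.symm a = 1 → a = 1 := by
      intro a ha h
      have h' := hinj (φ.symm a) ((map_ne_zero φ.symm).2 ha)
        (by rw [← h, nrm, nrm, φ.apply_symm_apply, mul_comm])
      rw [← φ.apply_symm_apply a, h', map_one]
    have hR₂ : S.w * C₂.par (0, 1) * S.w = C₂.par (1, 0) * S.w * (C₂.par (1, 0))⁻¹ := by
      change S.w * C₁.par _ * S.w = C₁.par _ * S.w * (C₁.par _)⁻¹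
      simp only [map_zero, map_one, nrm_zero, nrm_one, add_zero, zero_add]
      rw [hb] at hR₁
      exact hR₁
    have d₂ := C₂.data S.w_a S.w_b h4 hinj₂ htt hinv one_ne_zero hR₂
    refine ⟨F, iF, iFin, iC, φ.symm, m, hm, hF, ⟨⟨C₂, d₂.sq_phi, hinj₂, fun u hu => ?_⟩⟩⟩
    rw [C₂.tmap_spec S.w_b hu, d₂.T_eq hu]

namespace Std

variable (D : Std S φ)

/-- The points in coordinates. -/
noncomputable def pts : Option (F × F) ≃ Ω :=
  Equiv.ofBijective (fun o => o.elim S.a fun u => D.C.par u • S.b)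
    ⟨by
      rintro (_ | u) (_ | w) h
      · rfl
      · exact absurd h.symm (D.C.smul_b_ne w)
      · exact absurd h (D.C.smul_b_ne u)
      · exact congrArg some (D.C.smul_b_inj h),
    fun y => by
      rcases eq_or_ne y S.a with rfl | hy
      · exact ⟨none, rfl⟩
      · obtain ⟨u, hu⟩ := D.C.exists_smul_b hy
        exact ⟨some u, hu⟩⟩

lemma pts_none : D.pts none = S.a := rfl

lemma pts_some (u : F × F) : D.pts (some u) = D.C.par u • S.b := rfl

/-- The group in the model. -/
noncomputable def hom : G →* Equiv.Perm (Option (F × F)) :=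
  (Equiv.permCongrHom D.pts.symm).toMonoidHom.comp (MulAction.toPermHom G Ω)

lemma hom_apply (g : G) (o : Option (F × F)) : D.hom g o = D.pts.symm (g • D.pts o) := rfl

lemma hom_injective : Function.Injective D.hom := by
  haveI := S.Z.faithful
  exact (Equiv.permCongrHom D.pts.symm).injective.comp MulAction.toPerm_injective

lemma hom_eq {g : G} {f : Option (F × F) → Option (F × F)}
    (h : ∀ o, g • D.pts o = D.pts (f o)) : ⇑(D.hom g) = f := by
  funext o
  rw [D.hom_apply, h, Equiv.symm_apply_apply]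

lemma hom_par (w : F × F) : ⇑(D.hom (D.C.par w)) = trF φ w := by
  refine D.hom_eq fun o => ?_
  rcases o with _ | u
  · exact D.C.fix_a w
  · show D.C.par w • D.C.par u • S.b = D.C.par (tmul φ w u) • S.b
    rw [← mul_smul, D.C.par_mul]

lemma hom_D {d : G} (hd : d ∈ S.D) {l : F}
    (h : ∀ u, d * D.C.par u * d⁻¹ = D.C.par (scale φ l u)) : ⇑(D.hom d) = scF φ l := by
  refine D.hom_eq fun o => ?_
  rcases o with _ | u
  · exact hd.1
  · show d • D.C.par u • S.b = D.C.par (scale φ l u) • S.b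
    rw [← h, mul_smul, mul_smul, inv_smul_eq_iff.2 hd.2.symm]

lemma hom_w : ⇑(D.hom S.w) = swF φ := by
  classical
  refine D.hom_eq fun o => ?_
  rcases o with _ | u
  · show S.w • S.a = D.C.par 0 • S.b
    rw [D.C.par_zero, one_smul, S.w_a]
  · rcases eq_or_ne u 0 with rfl | hu
    · simp only [swF, if_pos rfl, D.pts_none, D.pts_some, D.C.par_zero, one_smul]
      exact S.w_b
    · simp only [swF, if_neg hu, D.pts_some]
      exact D.act u hu

/-- The image of the group is generated by the standard permutations. -/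
theorem range_hom : D.hom.range = Subgroup.closure (gens φ) := by
  refine le_antisymm ?_ ?_
  · set K := (Subgroup.closure (gens φ)).comap D.hom
    suffices h : ∀ g : G, g ∈ K by rintro _ ⟨g, rfl⟩; exact h g
    have hH : ∀ g ∈ S.H, g ∈ K := fun g hg => by
      obtain ⟨w, rfl⟩ := D.C.par_surj g hg
      exact Subgroup.subset_closure (Or.inl ⟨w, D.hom_par w⟩)
    have hD : ∀ g ∈ S.D, g ∈ K := fun g hg => by
      obtain ⟨l, hl, h⟩ := D.C.scal g hg
      exact Subgroup.subset_closure (Or.inr (Or.inl ⟨l, hl, D.hom_D hg h⟩))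
    have hw : S.w ∈ K := Subgroup.subset_closure (Or.inr (Or.inr D.hom_w))
    have hN : ∀ g : G, g • S.a = S.a → g ∈ K := fun g hg => by
      obtain ⟨u, hu, hub⟩ := S.exists_H_smul_b (S.smul_b_ne_a (S.mem_N.2 hg))
      have hd : u⁻¹ * g ∈ S.D := ⟨(mul_mem (inv_mem (S.hHa hu)) (S.mem_N.2 hg) : u⁻¹ * g ∈ S.N),
        show (u⁻¹ * g) • S.b = S.b by rw [mul_smul, ← hub, inv_smul_smul]⟩
      simpa using mul_mem (hH u hu) (hD _ hd)
    intro g
    rcases eq_or_ne (g • S.a) S.a with h | h
    · exact hN g h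
    · obtain ⟨u, hu, hub⟩ := S.exists_H_smul_b h
      have h1 : (S.w * u⁻¹ * g) • S.a = S.a := by
        rw [mul_smul, mul_smul, ← hub, inv_smul_smul, S.w_b]
      have := mul_mem (mul_mem (hH u hu) (inv_mem hw)) (hN _ h1)
      rwa [show u * S.w⁻¹ * (S.w * u⁻¹ * g) = g by group] at this
  · refine (Subgroup.closure_le _).2 ?_
    rintro p (⟨w, hp⟩ | ⟨l, hl, hp⟩ | hp)
    · exact ⟨D.C.par w, DFunLike.coe_injective ((D.hom_par w).trans hp.symm)⟩
    · obtain ⟨d, hd, h⟩ := D.C.scal_surj l hl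
      exact ⟨d, DFunLike.coe_injective ((D.hom_D hd h).trans hp.symm)⟩
    · exact ⟨S.w, DFunLike.coe_injective (D.hom_w.trans hp.symm)⟩

/-- The group is the model group. -/
noncomputable def equiv : G ≃* Subgroup.closure (gens φ) :=
  (MonoidHom.ofInjective D.hom_injective).trans (MulEquiv.subgroupCongr D.range_hom)

end Std

section Transport

variable {F' : Type} [Field F'] {φ' : F' ≃+* F'}

/-- Transport of standard coordinates along an isomorphism of fields. -/
noncomputable def Std.transport (D : Std S φ) (e : F' ≃+* F) (he : ∀ a, e (φ' a) = φ (e a)) :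
    Std S φ' where
  C :=
    { par := fun u => D.C.par (e u.1, e u.2)
      par_inj := fun u w h => by
        have h' := D.C.par_inj h
        exact Prod.ext (e.injective (Prod.ext_iff.1 h').1) (e.injective (Prod.ext_iff.1 h').2)
      par_mem := fun u => D.C.par_mem _
      par_surj := fun g hg => by
        obtain ⟨u, rfl⟩ := D.C.par_surj g hg
        exact ⟨(e.symm u.1, e.symm u.2), by simp⟩
      par_mul := fun u w => by
        rw [D.C.par_mul]
        congr 1
        simp [tmul, he]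
      scal := fun d hd => by
        obtain ⟨l, hl, h⟩ := D.C.scal d hd
        refine ⟨e.symm l, (map_ne_zero e.symm).2 hl, fun u => ?_⟩
        rw [h]
        congr 1
        simp [scale, nrm, he]
      scal_surj := fun l hl => by
        obtain ⟨d, hd, h⟩ := D.C.scal_surj (e l) ((map_ne_zero e).2 hl)
        refine ⟨d, hd, fun u => ?_⟩
        rw [h]
        congr 1
        simp [scale, nrm, he] }
  sq a := e.injective (by rw [he, he, D.sq, map_mul])
  inj a ha h := e.injective (by
    rw [map_one]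
    exact D.inj (e a) ((map_ne_zero e).2 ha) (by rw [nrm, ← he, ← map_mul, ← nrm, h, map_one]))
  act u hu := by
    have hu' : ((e u.1, e u.2) : F × F) ≠ 0 := fun h => hu (Prod.ext
      ((map_eq_zero e).1 (Prod.ext_iff.1 h).1) ((map_eq_zero e).1 (Prod.ext_iff.1 h).2))
    show S.w • D.C.par _ • S.b = D.C.par _ • S.b
    rw [D.act _ hu']
    congr 2
    by_cases h : u.1 = 0
    · simp [tau, h, he]
    · simp [tau, h, he, nrm]

end Transport

/-- The automorphism is determined by the field. -/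
theorem phi_unique [Fintype F] [CharP F 2] {m : ℕ} (hF : Fintype.card F = 2 ^ (2 * m + 1))
    {φ φ' : F ≃+* F} (hsq : ∀ a, φ (φ a) = a * a) (hinj : ∀ a : F, a ≠ 0 → nrm φ a = 1 → a = 1)
    (hsq' : ∀ a, φ' (φ' a) = a * a) (hinj' : ∀ a : F, a ≠ 0 → nrm φ' a = 1 → a = 1) : φ = φ' := by
  haveI := H48.FieldAut.finite_aut (F := F)
  have key : ∀ ψ : F ≃+* F, (∀ a, ψ (ψ a) = a * a) →
      (∀ a : F, a ≠ 0 → nrm ψ a = 1 → a = 1) → ∀ a, (ψ a) ^ 2 ^ m = a := by
    intro ψ hs hi a
    have hpow : ∀ k : ℕ, ∀ a : F, (ψ ^ (2 * k)) a = a ^ 2 ^ k := by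
      intro k
      induction k with
      | zero => intro a; simp
      | succ k ih =>
        intro a
        rw [show 2 * (k + 1) = 2 * k + 1 + 1 by ring, pow_succ, pow_succ]
        show (ψ ^ (2 * k)) (ψ (ψ a)) = _
        rw [ih, hs, ← pow_two, ← pow_mul, ← pow_succ']
    have h2n : ψ ^ (2 * (2 * m + 1)) = 1 := RingEquiv.ext fun b => by
      rw [hpow, ← hF, FiniteField.pow_card]; rfl
    have hn : ψ ^ (2 * m + 1) = 1 := orderOf_dvd_iff_pow_eq_one.1
      ((Nat.coprime_two_right.2 (H48.Suzuki.odd_order_aut ψ hi)).dvd_of_dvd_mul_left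
        (orderOf_dvd_of_pow_eq_one h2n))
    have h : (ψ ^ (2 * m + 1)) a = a := by rw [hn]; rfl
    rw [pow_succ] at h
    rw [← hpow]
    exact h
  refine RingEquiv.ext fun a => iterateFrobenius_inj F 2 m ?_
  simp only [iterateFrobenius_def]
  rw [key φ hsq hinj, key φ' hsq' hinj']

/-- Two groups with standard coordinates over fields of the same order are isomorphic. -/
theorem iso_of_std {G' Ω' : Type*} [Group G'] [MulAction G' Ω'] [Fintype Ω'] {S' : ZSetup G' Ω'}
    [Fintype F] [CharP F 2] {m : ℕ} (hF : Fintype.card F = 2 ^ (2 * m + 1))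
    {F' : Type} [Field F'] [Fintype F'] {φ' : F' ≃+* F'}
    (hF' : Fintype.card F' = 2 ^ (2 * m + 1)) (D : Std S φ) (D' : Std S' φ') :
    Nonempty (G ≃* G') := by
  let e : F ≃+* F' := FiniteField.ringEquivOfCardEq (hF.trans hF'.symm)
  let ψ : F ≃+* F := (e.trans φ').trans e.symm
  let D'' : Std S' ψ := D'.transport e (fun a => by simp [ψ])
  obtain rfl : φ = ψ := phi_unique hF D.sq D.inj D''.sq D''.inj
  exact ⟨D.equiv.trans D''.equiv.symm⟩

end Cfsg.Agent.H7.SzU
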